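import Cfsg.Agent.Mrg.Omega.OM.Lev.Main
import Cfsg.Agent.Mrg.Omega.OM.Lev.SFr
import Cfsg.Agent.Mrg.Omega.TC.UniLev
import Cfsg.Agent.Mrg.Omega.NO3S.Sym.Light
import Cfsg.Agent.Mrg.Omega.OM.SwapL.Off
import Cfsg.Agent.Mrg.Omega.OM.Swap.End
import Cfsg.Agent.Mrg.Omega.OM.Lev.Low.LowMain
import Cfsg.Agent.Mrg.Omega.NOThree.NoOver

-- merged: Cfsg.Agent.Mrg.Omega.Node.SymOf
section

section


/-!
# The leaves `SymTwoL`, `SymBigL`, `SymManyL` of NO-3S: the tree

As `Node/MultiOf.lean` (helper388), for `V_P` = even subsets of `{1..2^m+1}`, `k` factors (`m ≥ 2`, `k ≥ 1`).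
`StgP S P K B ZJ` is the level of `P`, `KZ B ZJ = ⟨C_G(Z_J), all FF-blocks over B⟩`.

```
SymTwoL (k = 1, m = 2), SymBigL (k = 1, m ≥ 3), SymManyL (k ≥ 2)
├── (Om) KZ normalises a nontrivial 2-group: OmS K c = OmNegS K c (THEOREM SW) + OmLevS K c (THEOREM SW at levels)
└── (E)  KZ normalises no nontrivial 2-group: ES K c
```

`c k m` is the condition on `(k, m)`.
-/

set_option autoImplicit false

namespace Cfsg.Agent.Omega.Node.SymOf

open Subgroup Cfsg Cfsg.Agent.ZN.ChoiceBase Cfsg.Agent.ZN.ChoiceSit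
open Cfsg.Agent.ZN (jj zj bau zc zl o2)
open Cfsg.Agent.Omega.FFThm (SymK SymKM)
open Cfsg.Agent.Omega.FrameFF (cv)
open Cfsg.Agent.Omega.LemmaK (Block)
open Cfsg.Agent.Omega.NO3S (HypL HypN HypJ Hyp PSS)
open Cfsg.Agent.Omega.NO3S.Level (lev lev_isLev)
open Cfsg.Agent.Omega.Frame (Cls)
open Cfsg.Agent.Omega.NO3S.EThree.Frame (Bg Fg)
open Cfsg.Agent.Omega.OM
open Cfsg.Agent.Omega.OM.Uni (FB)
open Cfsg.Agent.Omega.OM.LevD (LB)
open Cfsg.Agent.Omega.OM.Swap (SitFalse)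
open Cfsg.Agent.Omega.Node.MultiOf

universe u

section defs

variable {G : Type u} [Group G] [Finite G]

/-- **Symmetric blocks.** The level and the frame; `ι` = the transpositions of `C_S(Z_J)`, at least two. -/
structure MulS (S : Sylow 2 G) (P K B ZJ : Subgroup G) {ι : Type} (L W Z C : ι → Subgroup G) (k m : ℕ) : Prop where
  hyp : HypL S P
  stg : StgP S P K B ZJ
  sym : Nonempty (SymKM (S : Subgroup G) P (zl (S : Subgroup G) P) (cv (S : Subgroup G) P) k m)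
  fr : Fg B (o2 P) (zl (S : Subgroup G) P) ZJ L W Z C 2
  fin : Finite ι
  two : ∀ i : ι, ∃ j, j ≠ i

theorem exists_mulS {S : Sylow 2 G} {P : Subgroup G} (h : HypL S P) {k m : ℕ} (hk : 0 < k) (hm : 2 ≤ m)
    (N : SymKM (S : Subgroup G) P (zl (S : Subgroup G) P) (cv (S : Subgroup G) P) k m) :
    ∃ (K B ZJ : Subgroup G) (ι : Type) (L W Z C : ι → Subgroup G), MulS S P K B ZJ L W Z C k m := by
  rcases h.stage with hj | ⟨n, hn, hn1⟩
  · obtain ⟨ι, hι, W, d, t, r, L, A, -, -, -, -, hL⟩ := Line.exists_sym ⟨h.toHypN, hj⟩ hk hm N.toSymK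
    exact ⟨_, _, _, ι, L, W, _, _, h, StgP.neg hj, ⟨N⟩, Fg.of_fr hL.fr, hι, hL.two⟩
  · obtain ⟨ι, hι, W, d, t, r, L, A, -, -, -, -, h2, hF⟩ := Lev.Sym.exists_sym_lev FF.Glob.ffthmM
      h.toHyp.ctx.char2 h.star (lev_isLev (S : Subgroup G) n) (hn P h.star) h.toHyp.inf_eq_bot
      (NO3S.exists_BO h.toHyp.ctx.char2 h.star (hn P h.star) hn1) hk hm N
    exact ⟨_, _, _, ι, L, W, _, _, h, StgP.lev n hn (hn P h.star) hn1, ⟨N⟩, Lev.Main.toFg hF, hι, h2⟩

namespace MulS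

variable {S : Sylow 2 G} {P K B ZJ : Subgroup G} {ι : Type} {L W Z C : ι → Subgroup G} {k m : ℕ}
  (h : MulS S P K B ZJ L W Z C k m)
include h

theorem lb : LB S K B ZJ := h.stg.lb

theorem block (i : ι) : Block 2 B (L i) (W i) := (h.fr.blk i).toBlock (h.fr.cardZ i) h.lb.Bp h.lb.weakNormal

theorem fbl (i : ι) : FBl B (L i) (W i) := ⟨⟨_, _, h.fr.blk i⟩, h.block i⟩

theorem fam : LevD.Fam B ZJ (FBl B) where
  blk := fun _ _ hb => hb.blk
  conj := fun _ hn _ _ hb => hb.conj hn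
  zj_le := by
    have := h.fin
    refine (h.fr.ZJV.trans (Fg_V_le h.fr)).trans (iSup_le fun i => ?_)
    exact le_iSup (fun i : {x : Subgroup G × Subgroup G // FBl B x.1 x.2} => i.1.2) ⟨(L i, W i), h.fbl i⟩

theorem L_le (i : ι) : L i ≤ KZ B ZJ := LevD.blk_le_K0 (h.fbl i)

/-- **the dichotomy** -/
theorem cases : NLoc (KZ B ZJ) ∨ (o2 (KZ B ZJ) ≠ ⊥ ∧ o2 (KZ B ZJ) ≤ B ∧
    KZ B ZJ ⊔ normalizer (B : Set G) ≤ normalizer (o2 (KZ B ZJ) : Set G)) := by
  by_cases h0 : NLoc (KZ B ZJ)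
  · exact Or.inl h0
  · right
    unfold NLoc at h0
    push Not at h0
    obtain ⟨R, hR, hRn, hR1⟩ := h0
    exact LevD.Fam.dich h.lb h.fam hR hR1 hRn

end MulS

end defs

/-! ### Sockets -/

section sockets

variable (K : Cls.{u}) (c : ℕ → ℕ → Prop)

/-- **(Om)**, for the `(k, m)` with `c k m`. -/
def OmS : Prop :=
  ∀ (G : Type u) [Group G] [Finite G], K G → ∀ (S : Sylow 2 G) (P K' B ZJ : Subgroup G) (ι : Type)
    (L W Z C : ι → Subgroup G) (k m : ℕ), 0 < k → 2 ≤ m → c k m → MulS S P K' B ZJ L W Z C k m →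
      o2 (KZ B ZJ) ≠ ⊥ → o2 (KZ B ZJ) ≤ B →
      KZ B ZJ ⊔ normalizer (B : Set G) ≤ normalizer (o2 (KZ B ZJ) : Set G) → IsKnownSimple' G

/-- **(Om)**, stage `-1`, for the `(k, m)` with `c k m`. -/
def OmNegS : Prop :=
  ∀ (G : Type u) [Group G] [Finite G], K G → ∀ (S : Sylow 2 G) (P : Subgroup G) (k m : ℕ), HypL S P → HypJ S P →
    0 < k → 2 ≤ m → c k m → SymKM (S : Subgroup G) P (zl (S : Subgroup G) P) (cv (S : Subgroup G) P) k m →
        o2 (KZ (bau (S : Subgroup G)) (zj (S : Subgroup G))) ≠ ⊥ → IsKnownSimple' G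

/-- **(Om)**, stage `n`, for the `(k, m)` with `c k m`; `B = C_S(ZJ)`, `ZJ = Ω₁(Z(lev S (n + 1)))`. -/
def OmLevS : Prop :=
  ∀ (G : Type u) [Group G] [Finite G], K G → ∀ (S : Sylow 2 G) (P : Subgroup G) (k m : ℕ), HypL S P → ∀ n : ℕ,
    (∀ R, MinPar.IsParS (S : Subgroup G) R → lev (S : Subgroup G) n ≤ o2 R) →
    ¬ lev (S : Subgroup G) (n + 1) ≤ o2 P → 0 < k → 2 ≤ m → c k m →
      SymKM (S : Subgroup G) P (zl (S : Subgroup G) P) (cv (S : Subgroup G) P) k m →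
        ∀ B ZJ : Subgroup G, ZJ = zc (lev (S : Subgroup G) (n + 1)) →
          B = (S : Subgroup G) ⊓ centralizer (zc (lev (S : Subgroup G) (n + 1)) : Set G) →
          o2 (KZ B ZJ) ≠ ⊥ → IsKnownSimple' G

/-- **(E)**, for the `(k, m)` with `c k m`. -/
def ES : Prop :=
  ∀ (G : Type u) [Group G] [Finite G], K G → ∀ (S : Sylow 2 G) (P K' B ZJ : Subgroup G) (ι : Type)
    (L W Z C : ι → Subgroup G) (k m : ℕ), 0 < k → 2 ≤ m → c k m → MulS S P K' B ZJ L W Z C k m →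
      NLoc (KZ B ZJ) → IsKnownSimple' G

end sockets

variable {K : Cls.{u}}

theorem omS_of {c : ℕ → ℕ → Prop} (h1 : OmNegS K c) (h2 : OmLevS K c) : OmS K c := by
  intro G _ _ hK S P K' B ZJ ι L W Z C k m hk hm hc hM ho _ _
  obtain ⟨N⟩ := hM.sym
  cases hM.stg with
  | neg hj => exact h1 G hK S P k m hM.hyp ⟨hM.hyp.toHypN, hj⟩ hk hm hc N ho
  | lev n hall hn hn1 => exact h2 G hK S P k m hM.hyp n hall hn1 hk hm hc N _ _ rfl rfl ho

theorem known_of {c : ℕ → ℕ → Prop} (hO : OmS K c) (hE : ES K c) (G : Type u) [Group G] [Finite G] (hK : K G)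
    (S : Sylow 2 G) (P : Subgroup G) (h : HypL S P) (k m : ℕ) (hk : 0 < k) (hm : 2 ≤ m) (hc : c k m)
    (N : SymKM (S : Subgroup G) P (zl (S : Subgroup G) P) (cv (S : Subgroup G) P) k m) : IsKnownSimple' G := by
  obtain ⟨K', B, ZJ, ι, L, W, Z, C, hM⟩ := exists_mulS h hk hm N
  rcases hM.cases with h1 | ⟨h1, h2, h3⟩
  · exact hE G hK S P K' B ZJ ι L W Z C _ _ hk hm hc hM h1
  · exact hO G hK S P K' B ZJ ι L W Z C _ _ hk hm hc hM h1 h2 h3

/-- **`SymTwoL`** -/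
theorem symTwoL_of (hO : OmS K fun k m => k = 1 ∧ m = 2) (hE : ES K fun k m => k = 1 ∧ m = 2) :
    NO3S.SymTwoL K := by
  intro G _ _ hK S P h N
  exact known_of (c := fun k m => k = 1 ∧ m = 2) hO hE G hK S P h 1 2 one_pos le_rfl ⟨rfl, rfl⟩ N

/-- **`SymBigL`** -/
theorem symBigL_of (hO : OmS K fun k m => k = 1 ∧ 3 ≤ m) (hE : ES K fun k m => k = 1 ∧ 3 ≤ m) :
    NO3S.SymBigL K := by
  intro G _ _ hK S P h m hm N
  exact known_of (c := fun k m => k = 1 ∧ 3 ≤ m) hO hE G hK S P h 1 m one_pos (by omega) ⟨rfl, hm⟩ N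

/-- **`SymManyL`** -/
theorem symManyL_of (hO : OmS K fun k _ => 2 ≤ k) (hE : ES K fun k _ => 2 ≤ k) :
    NO3S.SymManyL K := by
  intro G _ _ hK S P h k m hk hm N
  exact known_of (c := fun k _ => 2 ≤ k) hO hE G hK S P h k m (by omega) hm hk N

/-- A weaker condition. -/
theorem OmS.mono {c c' : ℕ → ℕ → Prop} (h : OmS K c) (hc : ∀ k m, c' k m → c k m) : OmS K c' :=
  fun G _ _ hK S P K' B ZJ ι L W Z C k m hk hm hc' => h G hK S P K' B ZJ ι L W Z C k m hk hm (hc k m hc')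

theorem ES.mono {c c' : ℕ → ℕ → Prop} (h : ES K c) (hc : ∀ k m, c' k m → c k m) : ES K c' :=
  fun G _ _ hK S P K' B ZJ ι L W Z C k m hk hm hc' => h G hK S P K' B ZJ ι L W Z C k m hk hm (hc k m hc')

/-! ### (Om), stage `-1`: THEOREM SW -/

section neg

variable {G : Type u} [Group G] [Finite G] {S : Sylow 2 G} {P : Subgroup G}

/-- **(Om) is impossible at stage `-1`** (THEOREM SW). -/
theorem noOm_neg (hs : SitFalse.{u}) (hFF : FFThm.Stmt.{u}) (hA : FFBr.AStmt.{u}) (h : HypJ S P) {k m : ℕ}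
    (hk : 0 < k) (hm : 2 ≤ m) (N : SymK (S : Subgroup G) P (zl (S : Subgroup G) P) (cv (S : Subgroup G) P) k m) :
    NLoc (KZ (bau (S : Subgroup G)) (zj (S : Subgroup G))) := by
  obtain ⟨ι, hι, W, d, t, r, L, A, -, -, -, -, hL⟩ := Line.exists_sym h hk hm N
  have h1 := Swap.noOm hs hL (Swap.mf hL) hFF hA
  rw [KZ_neg]
  exact h1

end neg

/-- (Om), stage `-1`, modulo `SitFalse`. -/
theorem omNegS (hs : SitFalse.{u}) (hFF : FFThm.Stmt.{u}) (hA : FFBr.AStmt.{u}) (c : ℕ → ℕ → Prop) :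
    OmNegS K c := by
  intro G _ _ hK S P k m h hJ hk hm _ N ho
  exact absurd (noOm_neg hs hFF hA hJ hk hm N.toSymK _ (isPGroup_o2 _) (le_normalizer_o2 _)) ho

end Cfsg.Agent.Omega.Node.SymOf

end

section


/-!
# SymManyL (E): LEMMA FIX for `MulS` at every stage (CARD #20940, #22692, #23106)

* `FixK S P K0` : `K0 ≤ O₂(P)` (`1` at stage `-1`, `lev S n` at stage `n`), `N_G(Y) ≤ N_G(K0)` for `K0 ≤ Y ≤ S`,
  `V_P ≤ C(K0)`, and **LEMMA FIX**: `e ∈ O₂(P)` an involution, `e ∈ C(K0)`, `[e, O₂(P)] ≤ ⟨p⟩`, `p ∈ V_P` implies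
  `e ∈ V_P`;
* `fix_gen` : the abstract form, one `A ≤ S` inducing a group of order 2 on `V_P`;
* `fixK_neg`, `fixK_lev`, **`fixK_of`** (`MulS`, all stages).
-/

set_option autoImplicit false

namespace Cfsg.Agent.Omega.NO3S.ESym

open Subgroup Cfsg Cfsg.Agent.ZN.ChoiceBase Cfsg.Agent.ZN.ChoiceSit
open Cfsg.Agent.ZN (jj zj bau zc zl o2)
open Cfsg.Agent.PLocal.ThompsonJ Cfsg.Agent.PLocal.ElemAbSup
open Cfsg.Agent.Omega.FFThm (SymK SymKM OffM ElemM)
open Cfsg.Agent.Omega.FrameFF (cv)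
open Cfsg.Agent.Omega.MinPar (IsPar IsParS)
open Cfsg.Agent.Omega.NO3S (HypL HypN HypJ Hyp PSS)
open Cfsg.Agent.Omega.NO3S.Level (lev lev_isLev)
open Cfsg.Agent.Omega.OM
open Cfsg.Agent.Omega.OM.Uni (FB Md)
open Cfsg.Agent.Omega.TC (LevFix.Dat)
open Cfsg.Agent.Omega.NO1.BestOff (Best)

universe u

variable {G : Type u} [Group G] [Finite G]

/-- **LEMMA FIX**, with the level `K0`. -/
structure FixK (S : Sylow 2 G) (P K0 : Subgroup G) : Prop where
  le : K0 ≤ o2 P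
  nrm : ∀ Y : Subgroup G, K0 ≤ Y → Y ≤ (S : Subgroup G) → normalizer (Y : Set G) ≤ normalizer (K0 : Set G)
  cen : zl (S : Subgroup G) P ≤ centralizer (K0 : Set G)
  fix : ∀ e ∈ o2 P, e * e = 1 → e ∈ centralizer (K0 : Set G) → ∀ p ∈ zl (S : Subgroup G) P,
    (∀ o ∈ o2 P, o * e * o⁻¹ = e ∨ o * e * o⁻¹ = e * p) → e ∈ zl (S : Subgroup G) P

theorem mul_mem_of_card_le_two {B C : Subgroup G} (hCB : C ≤ B) (hc : Nat.card B ≤ 2 * Nat.card C) {x y : G}
    (hx : x ∈ B) (hxC : x ∉ C) (hy : y ∈ B) (hyC : y ∉ C) : x * y ∈ C := by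
  have h1 : (C.subgroupOf B).index * Nat.card C = Nat.card B := by
    have h := (C.subgroupOf B).index_mul_card
    rwa [Nat.card_congr (subgroupOfEquivOfLe hCB).toEquiv] at h
  have hpos : 0 < Nat.card C := Nat.card_pos
  have h2 : (C.subgroupOf B).index ≤ 2 := by
    refine Nat.le_of_mul_le_mul_right ?_ hpos
    rw [h1]; exact hc
  have h3 : (C.subgroupOf B).index ≠ 1 := by
    intro h
    have h4 : (⟨x, hx⟩ : B) ∈ C.subgroupOf B := by
      rw [index_eq_one.1 h]; exact mem_top _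
    exact hxC (mem_subgroupOf.1 h4)
  have h5 : (C.subgroupOf B).index ≠ 0 := index_ne_zero_of_finite
  have h6 : (C.subgroupOf B).index = 2 := by omega
  have h7 := (mul_mem_iff_of_index_two h6 (a := (⟨x, hx⟩ : B)) (b := (⟨y, hy⟩ : B))).2
    (iff_of_false (fun h => hxC (mem_subgroupOf.1 h)) fun h => hyC (mem_subgroupOf.1 h))
  exact mem_subgroupOf.1 h7

/-- a 2-group `T` fixes a nontrivial element of a nontrivial elementary abelian `M ≤ T`, `T ≤ N(M)` -/
theorem exists_fixed {T M : Subgroup G} (hT : IsPGroup 2 T) (hTM : T ≤ normalizer (M : Set G)) (hM1 : M ≠ ⊥)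
    (hM2 : IsPGroup 2 M) : ∃ x ∈ M, x ≠ 1 ∧ ∀ t ∈ T, t * x = x * t := by
  have hfact : Fact (Nat.Prime 2) := ⟨Nat.prime_two⟩
  let act : MulAction T M :=
    { smul := fun t m => ⟨(t : G) * m * (t : G)⁻¹, (mem_normalizer_iff.1 (hTM t.2) _).1 m.2⟩
      one_smul := fun m => Subtype.ext (by change ((1 : T) : G) * m * ((1 : T) : G)⁻¹ = m; simp)
      mul_smul := fun s t m => Subtype.ext (by
        change ((s * t : T) : G) * m * ((s * t : T) : G)⁻¹ = s * (t * m * (t : G)⁻¹) * (s : G)⁻¹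
        rw [Subgroup.coe_mul]; group) }
  have h1 : (1 : M) ∈ MulAction.fixedPoints T M := fun t => Subtype.ext (by
    change (t : G) * ((1 : M) : G) * (t : G)⁻¹ = ((1 : M) : G)
    simp)
  have hnt : Nontrivial M := (nontrivial_iff_ne_bot M).2 hM1
  have h2 : 2 ∣ Nat.card M := by
    obtain ⟨n, hn⟩ := IsPGroup.iff_card.1 hM2
    rw [hn]
    refine dvd_pow_self 2 ?_
    rintro rfl
    rw [pow_zero] at hn
    exact hM1 (card_eq_one.1 hn)
  obtain ⟨b, hb, hb1⟩ := hT.exists_fixed_point_of_prime_dvd_card_of_fixed_point M h2 h1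
  refine ⟨b, b.2, fun h => hb1 (Subtype.ext h.symm), fun t ht => ?_⟩
  have h3 : t * (b : G) * t⁻¹ = b := congrArg Subtype.val (hb ⟨t, ht⟩)
  rw [← mul_inv_eq_iff_eq_mul]
  exact h3

section gen

variable {S : Sylow 2 G} {P K A : Subgroup G}

/-- `A ≤ S`, `A ≰ O₂(P)` does not centralise a nontrivial normal subgroup of `P` in `V_P`. -/
theorem not_centralizes (hP : IsPar (S : Subgroup G) P) (hcv : zc (S : Subgroup G) ⊓ centralizer (P : Set G) = ⊥)
    (hA : A ≤ (S : Subgroup G)) (hAQ : ¬ A ≤ o2 P) {M : Subgroup G} (hM1 : M ≠ ⊥) (hMS : M ≤ (S : Subgroup G))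
    (hM : P ≤ normalizer (M : Set G)) (hsq : ∀ x ∈ M, x ^ 2 = 1) : ¬ A ≤ centralizer (M : Set G) := by
  intro hAM
  have hfact : Fact (Nat.Prime 2) := ⟨Nat.prime_two⟩
  -- `N := P ⊓ C(M)` is normal in `P`
  set N : Subgroup G := P ⊓ centralizer (M : Set G) with hN
  have hNn : P ≤ normalizer (N : Set G) := by
    refine fun x hx => mem_normalizer_of_cj_le ?_
    rintro _ ⟨y, hy, rfl⟩
    change x * y * x⁻¹ ∈ N
    refine mem_inf.2 ⟨mul_mem (mul_mem hx hy.1) (inv_mem hx), mem_centralizer_iff.2 fun z hz => ?_⟩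
    have h1 : x⁻¹ * z * x ∈ M := (mem_normalizer_iff''.1 (hM hx) z).1 hz
    have h2 := mem_centralizer_iff.1 hy.2 _ h1
    calc z * (x * y * x⁻¹) = x * (x⁻¹ * z * x * y) * x⁻¹ := by group
      _ = x * (y * (x⁻¹ * z * x)) * x⁻¹ := by rw [h2]
      _ = x * y * x⁻¹ * z := by group
  rcases hP.sup_eq_or_inf_le S inf_le_left hNn with h | h
  · -- `C_M(S) ≠ 1` is central in `P`
    obtain ⟨x, hxM, hx1, hxS⟩ := exists_fixed S.isPGroup' (hP.le.trans hM) hM1 (S.isPGroup'.to_le hMS)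
    apply hx1
    rw [← mem_bot, ← hcv]
    refine mem_inf.2 ⟨?_, ?_⟩
    · exact mem_zc.2 ⟨hMS hxM, hsq x hxM, hxS⟩
    · have h2 : P ≤ centralizer ({x} : Set G) := by
        rw [← h]
        refine sup_le (fun y hy => ?_) fun y hy => ?_
        · exact mem_centralizer_singleton_iff.2 (mem_centralizer_iff.1 hy.2 x hxM).symm
        · exact mem_centralizer_singleton_iff.2 (hxS y hy)
      exact mem_centralizer_iff.2 fun y hy => mem_centralizer_singleton_iff.1 (h2 hy)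
  · exact hAQ ((le_inf hA (le_inf (hA.trans hP.le) hAM)).trans h)

/-- **LEMMA FIX**, one `A ≤ S` inducing a group of order 2 on `V_P`. -/
theorem fix_gen (hP : IsParS (S : Subgroup G) P)
    (hcv : zc (S : Subgroup G) ⊓ centralizer (P : Set G) = ⊥)
    (hz : zc (o2 P) = zl (S : Subgroup G) P) (hKV : zl (S : Subgroup G) P ≤ centralizer (K : Set G))
    (hKn : P ≤ normalizer (K : Set G)) (hA : A ≤ (S : Subgroup G)) {τ : G} (hτ : τ ∈ A) (hτQ : τ ∉ o2 P)
    (idx : ∀ a ∈ A, a ∈ o2 P ∨ τ * a ∈ o2 P)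
    (off : ∀ F : Subgroup G, F ≤ o2 P → F ≤ centralizer (K : Set G) → zl (S : Subgroup G) P ≤ F →
      (∀ x ∈ F, ∀ y ∈ F, x * y = y * x) → (∀ x ∈ F, x * x = 1) → A ≤ normalizer (F : Set G) → OffM F A)
    {e p : G} (he : e ∈ o2 P) (he2 : e * e = 1) (heK : e ∈ centralizer (K : Set G)) (hp : p ∈ zl (S : Subgroup G) P)
    (hec : ∀ o ∈ o2 P, o * e * o⁻¹ = e ∨ o * e * o⁻¹ = e * p) : e ∈ zl (S : Subgroup G) P := by
  set V := zl (S : Subgroup G) P with hV
  have hzm : ∀ x : G, x ∈ V ↔ x ∈ o2 P ∧ x ^ 2 = 1 ∧ ∀ y ∈ o2 P, y * x = x * y := by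
    intro x; rw [← hz]; exact mem_zc
  by_cases hp1 : p = 1
  · subst hp1
    refine (hzm e).2 ⟨he, by rw [pow_two]; exact he2, fun o ho => ?_⟩
    have h1 : o * e * o⁻¹ = e := by
      rcases hec o ho with h | h
      · exact h
      · rw [h, mul_one]
    exact mul_inv_eq_iff_eq_mul.1 h1
  have hPV : P ≤ normalizer (V : Set G) := MinSimple.VModule.le_normalizer_zl _ _
  have hVO : V ≤ o2 P := fun x hx => ((hzm x).1 hx).1
  have hVS : V ≤ (S : Subgroup G) := hVO.trans (hP.isLoc.o2_le S)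
  have hPO : P ≤ normalizer (o2 P : Set G) := ZN.le_normalizer_o2 P
  have hSP : (S : Subgroup G) ≤ P := hP.le
  -- some conjugate of `p` is moved by `τ`
  obtain ⟨g, hg, hgp⟩ : ∃ g ∈ P, τ * (g * p * g⁻¹) * τ⁻¹ ≠ g * p * g⁻¹ := by
    by_contra hcon
    push Not at hcon
    set M : Subgroup G := closure {x | ∃ g ∈ P, x = g * p * g⁻¹} with hM
    have hMV : M ≤ V := by
      rw [hM, closure_le]
      rintro _ ⟨g, hg, rfl⟩
      exact (mem_normalizer_iff.1 (hPV hg) p).1 hp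
    have hpM : p ∈ M := subset_closure ⟨1, one_mem _, by group⟩
    have hM1 : M ≠ ⊥ := fun h => hp1 (mem_bot.1 (h ▸ hpM))
    have hPM : P ≤ normalizer (M : Set G) := by
      refine fun x hx => mem_normalizer_of_cj_le ?_
      rintro _ ⟨y, hy, rfl⟩
      change x * y * x⁻¹ ∈ M
      rw [hM] at hy
      induction hy using closure_induction with
      | mem y hy =>
        obtain ⟨g, hg, rfl⟩ := hy
        refine subset_closure ⟨x * g, mul_mem hx hg, by group⟩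
      | one => rw [mul_one, mul_inv_cancel]; exact one_mem _
      | mul a b _ _ ha hb =>
        have e1 : x * (a * b) * x⁻¹ = (x * a * x⁻¹) * (x * b * x⁻¹) := by group
        rw [e1]; exact mul_mem ha hb
      | inv a _ ha =>
        have e1 : x * a⁻¹ * x⁻¹ = (x * a * x⁻¹)⁻¹ := by group
        rw [e1]; exact inv_mem ha
    refine not_centralizes hP.toIsPar hcv hA (fun h => hτQ (h hτ)) hM1 (hMV.trans hVS) hPM
      (fun x hx => ((hzm x).1 (hMV hx)).2.1) ?_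
    have hτM : ∀ x ∈ M, τ * x = x * τ := by
      have h1 : M ≤ centralizer ({τ} : Set G) := by
        rw [hM, closure_le]
        rintro _ ⟨g, hg, rfl⟩
        exact mem_centralizer_singleton_iff.2 (mul_inv_eq_iff_eq_mul.1 (hcon g hg)).symm
      exact fun x hx => (mem_centralizer_singleton_iff.1 (h1 hx)).symm
    intro a ha
    refine mem_centralizer_iff.2 fun x hx => ?_
    have hcO : ∀ o ∈ o2 P, o * x = x * o := fun o ho => ((hzm x).1 (hMV hx)).2.2 o ho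
    rcases idx a ha with h | h
    · exact (hcO a h).symm
    · have h1 := hcO _ h
      have h2 := hτM x hx
      have h3 : τ * (a * x) = τ * (x * a) := by
        calc τ * (a * x) = τ * a * x := by group
          _ = x * (τ * a) := h1
          _ = x * τ * a := by group
          _ = τ * x * a := by rw [h2]
          _ = τ * (x * a) := by group
      exact (mul_left_cancel h3).symm
  have hOg : ∀ o ∈ o2 P, g⁻¹ * o * g ∈ o2 P := fun o ho => (mem_normalizer_iff''.1 (hPO hg) o).1 ho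
  have heK' : g * e * g⁻¹ ∈ centralizer (K : Set G) := by
    refine mem_centralizer_iff.2 fun y hy => ?_
    have h1 : g⁻¹ * y * g ∈ K := (mem_normalizer_iff''.1 (hKn hg) y).1 hy
    have h2 := mem_centralizer_iff.1 heK _ h1
    calc y * (g * e * g⁻¹) = g * (g⁻¹ * y * g * e) * g⁻¹ := by group
      _ = g * (e * (g⁻¹ * y * g)) * g⁻¹ := by rw [h2]
      _ = g * e * g⁻¹ * y := by group
  have hAP : A ≤ P := hA.trans hSP
  have hτK : τ * (g * e * g⁻¹) * τ⁻¹ ∈ centralizer (K : Set G) := by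
    refine mem_centralizer_iff.2 fun y hy => ?_
    have h1 : τ⁻¹ * y * τ ∈ K := (mem_normalizer_iff''.1 (hKn (hAP hτ)) y).1 hy
    have h2 := mem_centralizer_iff.1 heK' _ h1
    calc y * (τ * (g * e * g⁻¹) * τ⁻¹) = τ * (τ⁻¹ * y * τ * (g * e * g⁻¹)) * τ⁻¹ := by group
      _ = τ * (g * e * g⁻¹ * (τ⁻¹ * y * τ)) * τ⁻¹ := by rw [h2]
      _ = τ * (g * e * g⁻¹) * τ⁻¹ * y := by group
  have D : LevFix.Dat A (o2 P) V τ (g * p * g⁻¹) (g * e * g⁻¹) :=
    { VO := hVO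
      OV := fun o ho x hx => ((hzm x).1 hx).2.2 o ho
      V2 := fun x hx => by rw [← pow_two]; exact ((hzm x).1 hx).2.1
      AO := fun a ha o ho => (mem_normalizer_iff.1 (hPO (hAP ha)) o).1 ho
      AV := fun a ha x hx => (mem_normalizer_iff.1 (hPV (hAP ha)) x).1 hx
      τA := hτ
      idx := idx
      pV := (mem_normalizer_iff.1 (hPV hg) p).1 hp
      p1 := fun h => hp1 (conj_eq_one_iff.1 h)
      pτ := hgp
      eO := (mem_normalizer_iff.1 (hPO hg) e).1 he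
      e2 := by
        have e1 : g * e * g⁻¹ * (g * e * g⁻¹) = g * (e * e) * g⁻¹ := by group
        rw [e1, he2, mul_one, mul_inv_cancel]
      ec := by
        intro o ho
        have e1 : o * (g * e * g⁻¹) * o⁻¹ = g * ((g⁻¹ * o * g) * e * (g⁻¹ * o * g)⁻¹) * g⁻¹ := by group
        rw [e1]
        rcases hec _ (hOg o ho) with h | h
        · left; rw [h]
        · right; rw [h]; group
      off := by
        intro F hFO hVF hFc hFcm hFsq hAF
        refine off F hFO (hFc.trans ((closure_le _).2 ?_)) hVF hFcm hFsq hAF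
        rintro x (hx | rfl | rfl)
        · exact hKV hx
        · exact heK'
        · exact hτK }
  have hmain := D.main
  have h1 : g * e * g⁻¹ ∈ V := (hzm _).2 ⟨D.eO, by rw [pow_two]; exact D.e2, hmain⟩
  exact (mem_normalizer_iff.1 (hPV hg) e).2 h1

end gen

section stage

variable {S : Sylow 2 G} {P : Subgroup G}

/-- `τ ∈ A` moves `W`, `|B : C_B(W)| ≤ 2` -/
theorem idx_of {B W A Q : Subgroup G} (hc : Nat.card B ≤ 2 * Nat.card ↥(B ⊓ centralizer (W : Set G)))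
    (hAB : A ≤ B) (hQ : ∀ a ∈ A, (∀ w ∈ W, a * w = w * a) → a ∈ Q)
    {τ : G} (hτ : τ ∈ A) {v : G} (hv : v ∈ W) (hτv : τ * v ≠ v * τ) : ∀ a ∈ A, a ∈ Q ∨ τ * a ∈ Q := by
  intro a ha
  by_cases haC : ∀ w ∈ W, a * w = w * a
  · exact Or.inl (hQ a ha haC)
  · right
    refine hQ _ (mul_mem hτ ha) fun w hw => ?_
    have h1 : τ * a ∈ B ⊓ centralizer (W : Set G) := by
      refine mul_mem_of_card_le_two inf_le_left hc (hAB hτ) (fun h => hτv ?_) (hAB ha) fun h => haC ?_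
      · exact (mem_centralizer_iff.1 h.2 v hv).symm
      · exact fun w hw => (mem_centralizer_iff.1 h.2 w hw).symm
    exact (mem_centralizer_iff.1 h1.2 w hw).symm

/-- stage `-1` -/
theorem fixK_neg (h : HypL S P) (hJ : ¬ jj (S : Subgroup G) ≤ o2 P) {k m : ℕ} (hk : 0 < k) (hm : 2 ≤ m)
    (N : SymKM (S : Subgroup G) P (zl (S : Subgroup G) P) (cv (S : Subgroup G) P) k m) : FixK S P ⊥ := by
  obtain ⟨ι, hι, W, d, t, r, L, A, hs, -, -, hAA, hL⟩ := Line.exists_sym ⟨h.toHypN, hJ⟩ hk hm N.toSymK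
  obtain ⟨i⟩ := hs.ne
  have hAi := hAA i
  have hne := hL.fr.Ane i
  push Not at hne
  obtain ⟨τ, hτ, v, hv, hτv⟩ := hne
  have hAB : A i ≤ bau (S : Subgroup G) := hL.fr.AB i
  have hAQ : ∀ a ∈ A i, (∀ w ∈ W i, a * w = w * a) → a ∈ o2 P := by
    intro a ha hw
    refine (hL.fr.mem_Q a (hAB ha)).2 fun x hx => ?_
    obtain ⟨w, hw', c, hc, rfl⟩ := hL.fr.WC i x hx
    have c1 : Commute a w := hw w hw'
    have c2 : Commute a c := hL.fr.AC i a ha c hc
    exact (c1.mul_right c2).eq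
  have hτQ : τ ∉ o2 P := fun hh => hτv ((hL.fr.mem_Q τ (hAB hτ)).1 hh v (hL.fr.WV i hv))
  have hAi1 := (isElementaryAbelian_iff.1 hAi.1).1
  have hAi2 := (isElementaryAbelian_iff.1 hAi.1).2
  have hbot : ∀ x : G, x ∈ normalizer ((⊥ : Subgroup G) : Set G) := fun x => by
    rw [mem_normalizer_iff]
    intro y
    rw [mem_bot, mem_bot]
    exact conj_eq_one_iff.symm
  have hcb : ∀ x : G, x ∈ centralizer ((⊥ : Subgroup G) : Set G) := fun x => by
    refine mem_centralizer_iff.2 fun y hy => ?_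
    rw [mem_bot.1 hy, one_mul, mul_one]
  refine ⟨bot_le, fun Y _ _ x _ => hbot x, fun x _ => hcb x, fun e he he2 heK p hp hec => ?_⟩
  refine fix_gen (K := ⊥) h.star h.toHyp.inf_eq_bot hs.zc_eq (fun x _ => hcb x) (fun x _ => hbot x) hAi.2.1 hτ hτQ
    (idx_of (hL.fr.blk i).cardB hAB hAQ hτ hv hτv) ?_ he he2 heK hp hec
  intro F hF _ hVF hFc hFs hAF
  refine { sq := fun a ha => by rw [hAi2 a ha]; exact one_mem _
           comm := fun a ha b hb => by
            rw [hAi1 a ha b hb, mul_inv_cancel_right, mul_inv_cancel]; exact one_mem _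
           ne := fun hh => hτv (mem_centralizer_iff.1 (hh hτ) v (hVF (hL.fr.WV i hv))).symm
           le := ?_ }
  have hFe : IsElementaryAbelian 2 F := isElementaryAbelian_iff.2 ⟨hFc, fun x hx => by rw [pow_two]; exact hFs x hx⟩
  have hFT : F ≤ (S : Subgroup G) := hF.trans (h.star.isLoc.o2_le S)
  have hc : A i ⊓ centralizer (F : Set G) ≤ centralizer (F : Set G) := inf_le_right
  have h1 := card_sup_mul_card_inf hc
  have h2 : Nat.card (F ⊔ (A i ⊓ centralizer (F : Set G)) : Subgroup G) ≤ Nat.card (A i) :=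
    hAi.2.2 _ (isElementaryAbelian_sup hFe (isElementaryAbelian_mono hAi.1 inf_le_left) hc)
      (sup_le hFT (inf_le_left.trans hAi.2.1))
  have h3 : Nat.card (F ⊓ (A i ⊓ centralizer (F : Set G)) : Subgroup G) ≤ Nat.card ↥(F ⊓ centralizer (A i : Set G)) := by
    refine Subgroup.card_le_of_le (inf_le_inf_left _ (inf_le_left.trans ?_))
    intro a ha
    exact mem_centralizer_iff.2 fun b hb => hAi1 b hb a ha
  rw [← h1]
  exact Nat.mul_le_mul h2 h3

/-- stage `n` -/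
theorem fixK_lev (h : HypL S P) {n : ℕ} (hn : lev (S : Subgroup G) n ≤ o2 P)
    (hn1 : ¬ lev (S : Subgroup G) (n + 1) ≤ o2 P) {k m : ℕ} (hk : 0 < k) (hm : 2 ≤ m)
    (N : SymKM (S : Subgroup G) P (zl (S : Subgroup G) P) (cv (S : Subgroup G) P) k m) :
    FixK S P (lev (S : Subgroup G) n) := by
  obtain ⟨ι, hι, W, d, t, r, L, A, hs, -, -, -, h2, hF⟩ := Lev.Sym.exists_sym_lev FF.Glob.ffthmM
    h.toHyp.ctx.char2 h.star (lev_isLev (S : Subgroup G) n) hn h.toHyp.inf_eq_bot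
    (NO3S.exists_BO h.toHyp.ctx.char2 h.star hn hn1) hk hm N
  obtain ⟨i⟩ := hs.ne
  have hne := hF.Ane i
  push Not at hne
  obtain ⟨τ, hτ, v, hv, hτv⟩ := hne
  have hAB := hF.AB i
  have hAS : A i ≤ (S : Subgroup G) := hAB.trans inf_le_left
  have hlev := lev_isLev (S : Subgroup G) n
  have hOS : o2 P ≤ (S : Subgroup G) := h.star.isLoc.o2_le S
  have hτQ : τ ∉ o2 P := fun hh => hτv ((hF.mem_Q τ (hAB hτ)).1 hh v (hF.WV i hv))
  have hVX : zl (S : Subgroup G) P ≤ zc (lev (S : Subgroup G) n) := hF.VX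
  have hKV : zl (S : Subgroup G) P ≤ centralizer (lev (S : Subgroup G) n : Set G) := by
    intro x hx
    exact mem_centralizer_iff.2 fun y hy => (mem_zc.1 (hVX hx)).2.2 y hy
  have hKn : P ≤ normalizer (lev (S : Subgroup G) n : Set G) := hlev.le_norm_of_o2 hn hOS
  have hbest : Best (zc (lev (S : Subgroup G) n)) (A i) := by
    refine ⟨hF.AX i, fun Y h1 h2 => ?_⟩
    exact hF.best i Y h2 h1
  refine ⟨hn, fun Y hY hYS => hlev.norm Y hY hYS, hKV, fun e he he2 heK p hp hec => ?_⟩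
  refine fix_gen (K := lev (S : Subgroup G) n) h.star h.toHyp.inf_eq_bot hs.zc_eq hKV hKn hAS hτ hτQ
    (idx_of (hF.blk i).cardB hAB (fun a ha => hF.A_Q ha) hτ hv hτv) ?_ he he2 heK hp hec
  intro F hFO hFK hVF hFc hFs hAF
  have hFX : F ≤ zc (lev (S : Subgroup G) n) := fun x hx =>
    hlev.mem_of_comm (hOS (hFO hx)) (by rw [pow_two]; exact hFs x hx) fun y hy =>
      mem_centralizer_iff.1 (hFK hx) y hy
  exact hbest.offM hFX fun hh => hτv (mem_centralizer_iff.1 (hh hτ) v (hVF (hF.WV i hv))).symm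

end stage

open Cfsg.Agent.Omega.Node.MultiOf Cfsg.Agent.Omega.Node.SymOf in
/-- **LEMMA FIX for `MulS`, every stage.** -/
theorem fixK_of {S : Sylow 2 G} {P K B ZJ : Subgroup G} {ι : Type} {L W Z C : ι → Subgroup G} {k m : ℕ}
    (h : MulS S P K B ZJ L W Z C k m) (hk : 0 < k) (hm : 2 ≤ m) : ∃ K0 : Subgroup G, FixK S P K0 := by
  obtain ⟨N⟩ := h.sym
  cases h.stg with
  | neg hj => exact ⟨_, fixK_neg h.hyp hj hk hm N⟩
  | lev n hall hn hn1 => exact ⟨_, fixK_lev h.hyp hn hn1 hk hm N⟩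

end Cfsg.Agent.Omega.NO3S.ESym

end

section


/-!
# `SymTwoL` (`V_P` = even subsets of `{1..5}`) from (Om) and the light case (E)

`ELight K` : (E) with light vectors which are not 2-central (`FiveL`); `symTwoL_of_light : Two K → OmS K (1, 2) →
ELight K → SymTwoL K`.
-/

set_option autoImplicit false

namespace Cfsg.Agent.Omega.Node.SymOf

open Subgroup Cfsg Cfsg.Agent.ZN.ChoiceBase Cfsg.Agent.ZN.ChoiceSit
open Cfsg.Agent.ZN (jj zj bau zc zl o2)
open Cfsg.Agent.Omega.NO3S (HypL HypN HypJ Hyp PSS)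
open Cfsg.Agent.Omega.Frame (Cls)
open Cfsg.Agent.Omega.Node.MultiOf

universe u

/-- **(E)**, `V_P` = even subsets of `{1..5}`, light vectors not 2-central. -/
def ELight (K : Cls.{u}) : Prop :=
  ∀ (G : Type u) [Group G] [Finite G], K G → ∀ (S : Sylow 2 G) (P K' B ZJ : Subgroup G) (ι : Type)
    (L W Z C : ι → Subgroup G), MulS S P K' B ZJ L W Z C 1 2 → NLoc (KZ B ZJ) →
      ∀ p : Fin 5 → G, NO3S.Sym.Light.FiveL S P p → IsKnownSimple' G

variable {K : Cls.{u}}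

/-- (E) from the light case. -/
theorem eS_of_light (h2 : NO3S.Two K) (hl : ELight K) : ES K fun k m => k = 1 ∧ m = 2 := by
  intro G _ _ hK S P K' B ZJ ι L W Z C k m _ _ hkm hM hN
  obtain ⟨rfl, rfl⟩ := hkm
  obtain ⟨M⟩ := hM.sym
  obtain ⟨p, hp⟩ := NO3S.Sym.Exit.exists_five hM.hyp.toHyp M.toSymK
  by_cases hc : ∃ T₀ : Sylow 2 G, ∀ x ∈ (T₀ : Subgroup G), x * NTwo.nn p * x⁻¹ = NTwo.nn p
  · obtain ⟨T₀, hT₀⟩ := hc
    exact NO3S.Sym.Exit.known_of_central h2 hK hp T₀ hT₀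
  · push Not at hc
    exact hl G hK S P K' B ZJ ι L W Z C hM hN p ⟨hp, fun T₀ h0 => by
      obtain ⟨x, hx, h1⟩ := hc T₀
      exact h1 (h0 x hx)⟩

/-- **`SymTwoL`** from (Om) and the light case (E). -/
theorem symTwoL_of_light (h2 : NO3S.Two K) (hO : OmS K fun k m => k = 1 ∧ m = 2) (hl : ELight K) :
    NO3S.SymTwoL K := symTwoL_of hO (eS_of_light h2 hl)

end Cfsg.Agent.Omega.Node.SymOf

end

end

-- merged: Cfsg.Agent.Mrg.Omega.OM.SwapL.Main
section

section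


/-!
# THEOREM SW: (Om) is impossible for `q = 2`

* `sitFFalse`; `omNeg_two` : the socket `MultiOf.OmNeg K (fun _ q => q = 2)` (no hypothesis);
* `LowTwo K` : **LL**, for `q = 2`, in the local groups `M ≥ K0, N_G(B)`;
* `nloc` : `K0` normalises no nontrivial 2-subgroup;
* `omLev_two` : the socket `MultiOf.OmLev K (fun _ q => q = 2)`, modulo `LowTwo K`;
* `omOf_two` : `MultiOf.OmOf K (fun _ q => q = 2)`, modulo `LowTwo K`.
-/

set_option autoImplicit false

namespace Cfsg.Agent.Omega.OM.SwapL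

open Subgroup Cfsg Cfsg.Agent.ZN.ChoiceBase Cfsg.Agent.ZN.ChoiceSit
open Cfsg.Agent.ZN (jj zj bau zc zl o2)
open Cfsg.Agent.Omega.NO3S (HypN HypL)
open Cfsg.Agent.Omega.NO3S.Level (lev)
open Cfsg.Agent.Omega.FFThm (NatK NatKM)
open Cfsg.Agent.Omega.FrameFF (cv)
open Cfsg.Agent.Omega.Frame (Cls)
open Cfsg.Agent.Omega.OM.LevD (Fam)
open Cfsg.Agent.Omega.OM.LevB (FBlk)
open Cfsg.Agent.Omega.Node.MultiOf (FBl KZ NLoc OmLev OmNeg OmOf)

universe u

theorem sitFFalse : SitFFalse.{u} := fun _ _ _ _ _ _ _ _ _ _ h => h.false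

/-- **(Om), stage `-1`, `q = 2`.** -/
theorem omNeg_two {K : Cls.{u}} : OmNeg K fun _ q => q = 2 :=
  Node.MultiOf.omNeg_two Swap.sitFalse FF.Glob.ffthm FF.Glob.aStmt

/-- `K0`, over `FBl`. -/
theorem K0_eq {G : Type u} [Group G] (B ZJ : Subgroup G) : LevD.K0 ZJ (FBlk B) = KZ B ZJ := by
  have e : FBlk B = FBl B := by
    funext L V
    exact propext ⟨fun h => ⟨h.fb, h.blk⟩, fun h => ⟨h.fb, h.blk⟩⟩
  rw [e]
  rfl

/-- **LL for `q = 2`** : in a local group `M ≥ K0, N_G(B)` (as in (Om)), the minimal parabolics `Y` of smaller stage over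
a 2-group `T ≥ B` which move `Ω₁Z(T)` lie in `M`. -/
def LowTwo (K : Cls.{u}) : Prop :=
  ∀ (G : Type u) [Group G] [Finite G], K G → ∀ (S : Sylow 2 G) (P : Subgroup G) (k : ℕ), HypL S P → ∀ n : ℕ,
    (∀ R, MinPar.IsParS (S : Subgroup G) R → lev (S : Subgroup G) n ≤ o2 R) →
    ¬ lev (S : Subgroup G) (n + 1) ≤ o2 P → 2 ≤ k →
    ∀ (F : Type) [Field F] [Finite F] [CharP F 2], Nat.card F = 2 →
      NatKM F (S : Subgroup G) P (zl (S : Subgroup G) P) (cv (S : Subgroup G) P) k →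
        ∀ M : Subgroup G, KZ (BL (S : Subgroup G) n) (ZL (S : Subgroup G) n) ≤ M →
          normalizer (BL (S : Subgroup G) n : Set G) ≤ M → o2 M ≠ ⊥ → Low S n M

/-- **(Om) is impossible for `q = 2`, at stage `n`.** -/
theorem nloc {K : Cls.{u}} (hl : LowTwo K) {G : Type u} [Group G] [Finite G] (hK : K G)
    {S : Sylow 2 G} {P : Subgroup G} {k : ℕ} (h : HypL S P) {n : ℕ}
    (hall : ∀ R, MinPar.IsParS (S : Subgroup G) R → lev (S : Subgroup G) n ≤ o2 R)
    (hn1 : ¬ lev (S : Subgroup G) (n + 1) ≤ o2 P) (hk : 2 ≤ k)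
    {F : Type} [Field F] [Finite F] [CharP F 2] (hF : Nat.card F = 2)
    (N : NatKM F (S : Subgroup G) P (zl (S : Subgroup G) P) (cv (S : Subgroup G) P) k) :
    NLoc (KZ (BL (S : Subgroup G) n) (ZL (S : Subgroup G) n)) := by
  obtain ⟨M, L, Z, A, -, hFr, hBg, -⟩ := Lev.Main.bg_lev h.toHypN (hall P h.star) hn1 hk N
    (B := BL (S : Subgroup G) n) rfl
  rw [hF] at hFr hBg
  have hm : Node.MultiOf.Mul S P (lev (S : Subgroup G) (n + 1)) (BL (S : Subgroup G) n) (ZL (S : Subgroup G) n)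
      L _ Z _ 2 :=
    ⟨h, Node.MultiOf.StgP.lev n hall (hall P h.star) hn1, hBg, F, inferInstance, inferInstance, inferInstance, hF,
      ⟨N⟩⟩
  have hln : Ln S P n L _ Z _ A 2 := ⟨h.toHypN, hall P h.star, hFr, hBg.two⟩
  have hfam : Fam (BL (S : Subgroup G) n) (ZL (S : Subgroup G) n) (FBlk (BL (S : Subgroup G) n)) := by
    have e : FBlk (BL (S : Subgroup G) n) = FBl (BL (S : Subgroup G) n) := by
      funext L V
      exact propext ⟨fun h => ⟨h.fb, h.blk⟩, fun h => ⟨h.fb, h.blk⟩⟩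
    rw [e]
    exact hm.fam
  have h1 := noOm sitFFalse hln hn1 hfam (fun i => by rw [K0_eq]; exact hm.L_le i) fun M hM hN ho => by
    rw [K0_eq] at hM
    exact hl G hK S P k h n hall hn1 hk F hF N M hM hN ho
  rw [K0_eq] at h1
  exact h1

/-- **(Om), stage `n`, `q = 2`.** -/
theorem omLev_two {K : Cls.{u}} (hl : LowTwo K) : OmLev K fun _ q => q = 2 := by
  intro G _ _ hK S P k h n hall hn1 hk F _ _ _ hF N B ZJ hZJ hB ho
  subst hZJ hB
  exact absurd (nloc hl hK h hall hn1 hk hF N _ (isPGroup_o2 _) (le_normalizer_o2 _)) ho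

/-- **(Om), `q = 2`.** -/
theorem omOf_two {K : Cls.{u}} (hl : LowTwo K) : OmOf K fun _ q => q = 2 :=
  Node.MultiOf.omOf_of omNeg_two (omLev_two hl)

end Cfsg.Agent.Omega.OM.SwapL

end

section


/-!
# NO-3S, (Om), symmetric types: THEOREM SW in the form of the sockets (natural types: `OM/SwapL/Main.lean`, helper590)

* `omNegS K c : OmNegS K c` (no hypothesis);
* `LowS K c` : **LL** for symmetric types, in the local groups `M ≥ K0, N_G(B)`;
* `omLevS : LowS K c → OmLevS K c`, `omS : LowS K c → OmS K c`;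
* `lowS_of_bg`, `lowTwo_of_bg` : `LowS`, `LowTwo` from `SwapL.BG`.
-/

set_option autoImplicit false

namespace Cfsg.Agent.Omega.Node.OmLevOf

open Subgroup Cfsg Cfsg.Agent.ZN.ChoiceBase Cfsg.Agent.ZN.ChoiceSit
open Cfsg.Agent.ZN (jj zj bau zc zl o2)
open Cfsg.Agent.Omega.FFThm (NatK NatKM SymK SymKM)
open Cfsg.Agent.Omega.FrameFF (cv)
open Cfsg.Agent.Omega.NO3S (HypL HypN HypJ Hyp PSS)
open Cfsg.Agent.Omega.NO3S.Level (lev lev_isLev)
open Cfsg.Agent.Omega.Frame (Cls)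
open Cfsg.Agent.Omega.OM
open Cfsg.Agent.Omega.OM.LevD (Fam)
open Cfsg.Agent.Omega.OM.LevB (FBlk)
open Cfsg.Agent.Omega.OM.SwapL (BL ZL Ln Low BG SitFFalse sitFFalse K0_eq LowTwo)
open Cfsg.Agent.Omega.Node.MultiOf Cfsg.Agent.Omega.Node.SymOf

universe u

theorem fblk_eq {G : Type u} [Group G] (B : Subgroup G) : FBlk B = FBl B := by
  funext L V
  exact propext ⟨fun h => ⟨h.fb, h.blk⟩, fun h => ⟨h.fb, h.blk⟩⟩

section one

variable {G : Type u} [Group G] [Finite G] {S : Sylow 2 G} {P : Subgroup G} {n : ℕ} {ι : Type} [Finite ι]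
  {L W Z C A : ι → Subgroup G}

/-- **(Om) is impossible at stage `n`, `q = 2`**, frame level. -/
theorem noOm_lev (h : Ln S P n L W Z C A 2) (hn1 : ¬ lev (S : Subgroup G) (n + 1) ≤ o2 P)
    (hF : Fam (BL (S : Subgroup G) n) (ZL (S : Subgroup G) n) (FBl (BL (S : Subgroup G) n)))
    (hL : ∀ i, FBl (BL (S : Subgroup G) n) (L i) (W i))
    (hl : ∀ M : Subgroup G, KZ (BL (S : Subgroup G) n) (ZL (S : Subgroup G) n) ≤ M →
      normalizer (BL (S : Subgroup G) n : Set G) ≤ M → o2 M ≠ ⊥ → Low S n M) :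
    NLoc (KZ (BL (S : Subgroup G) n) (ZL (S : Subgroup G) n)) := by
  have hfam : Fam (BL (S : Subgroup G) n) (ZL (S : Subgroup G) n) (FBlk (BL (S : Subgroup G) n)) := by
    rw [fblk_eq]
    exact hF
  have h1 := SwapL.noOm sitFFalse h hn1 hfam (fun i => by rw [K0_eq]; exact LevD.blk_le_K0 (hL i)) fun M hM hN ho => by
    rw [K0_eq] at hM
    exact hl M hM hN ho
  rw [K0_eq] at h1
  exact h1

end one

section sockets

variable (K : Cls.{u})

/-- **LL for symmetric types** : in a local group `M ≥ K0, N_G(B)` (as in (Om)), the minimal parabolics `Y` of smaller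
stage over a 2-group `T ≥ B` which move `Ω₁Z(T)` lie in `M`. -/
def LowS (c : ℕ → ℕ → Prop) : Prop :=
  ∀ (G : Type u) [Group G] [Finite G], K G → ∀ (S : Sylow 2 G) (P : Subgroup G) (k m : ℕ), HypL S P → ∀ n : ℕ,
    (∀ R, MinPar.IsParS (S : Subgroup G) R → lev (S : Subgroup G) n ≤ o2 R) →
    ¬ lev (S : Subgroup G) (n + 1) ≤ o2 P → 0 < k → 2 ≤ m → c k m →
      SymKM (S : Subgroup G) P (zl (S : Subgroup G) P) (cv (S : Subgroup G) P) k m →
        ∀ M : Subgroup G, KZ (BL (S : Subgroup G) n) (ZL (S : Subgroup G) n) ≤ M →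
          normalizer (BL (S : Subgroup G) n : Set G) ≤ M → o2 M ≠ ⊥ → Low S n M

/-- **(Om) is impossible at stage `-1`, symmetric types.** -/
theorem omNegS (c : ℕ → ℕ → Prop) : OmNegS K c := SymOf.omNegS Swap.sitFalse FF.Glob.ffthm FF.Glob.aStmt c

end sockets

variable {K : Cls.{u}}

/-- (Om), stage `n`, symmetric types. -/
theorem omLevS {c : ℕ → ℕ → Prop} (hl : LowS K c) : OmLevS K c := by
  intro G _ _ hK S P k m h n hall hn1 hk hm hc N B ZJ eZ eB ho
  subst eZ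
  subst eB
  obtain ⟨ι, hι, W, d, t, r, L, A, -, -, -, -, h2, hFr⟩ := Lev.Sym.exists_sym_lev FF.Glob.ffthmM
      h.toHyp.ctx.char2 h.star (lev_isLev (S : Subgroup G) n) (hall P h.star) h.toHyp.inf_eq_bot
      (NO3S.exists_BO h.toHyp.ctx.char2 h.star (hall P h.star) hn1) hk hm N
  have hM : MulS S P _ _ _ L W _ _ k m :=
    ⟨h, StgP.lev n hall (hall P h.star) hn1, ⟨N⟩, Lev.Main.toFg hFr, hι, h2⟩
  have hln : Ln S P n L W _ _ A 2 := ⟨h.toHypN, hall P h.star, hFr, h2⟩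
  have h1 := noOm_lev hln hn1 hM.fam hM.fbl (hl G hK S P k m h n hall hn1 hk hm hc N)
  exact absurd (h1 _ (isPGroup_o2 _) (le_normalizer_o2 _)) ho

/-- **(Om), symmetric types, all stages.** -/
theorem omS {c : ℕ → ℕ → Prop} (hl : LowS K c) : OmS K c := omS_of (omNegS K c) (omLevS hl)

/-- `LowS` from `SwapL.BG`. -/
theorem lowS_of_bg {c : ℕ → ℕ → Prop} (h : ∀ (G : Type u) [Group G] [Finite G], K G →
    ∀ (S : Sylow 2 G) (P : Subgroup G) (k m : ℕ), HypL S P → ∀ n : ℕ,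
    (∀ R, MinPar.IsParS (S : Subgroup G) R → lev (S : Subgroup G) n ≤ o2 R) →
    ¬ lev (S : Subgroup G) (n + 1) ≤ o2 P → 0 < k → 2 ≤ m → c k m →
      SymKM (S : Subgroup G) P (zl (S : Subgroup G) P) (cv (S : Subgroup G) P) k m →
        BG S n (FBl (BL (S : Subgroup G) n))) : LowS K c :=
  fun G _ _ hK S P k m hP n hall hn1 hk hm hc N _ hM hN _ =>
    (h G hK S P k m hP n hall hn1 hk hm hc N).low hM hN

/-- `LowTwo` from `SwapL.BG`. -/
theorem lowTwo_of_bg (h : ∀ (G : Type u) [Group G] [Finite G], K G →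
    ∀ (S : Sylow 2 G) (P : Subgroup G) (k : ℕ), HypL S P → ∀ n : ℕ,
    (∀ R, MinPar.IsParS (S : Subgroup G) R → lev (S : Subgroup G) n ≤ o2 R) →
    ¬ lev (S : Subgroup G) (n + 1) ≤ o2 P → 2 ≤ k →
    ∀ (F : Type) [Field F] [Finite F] [CharP F 2], Nat.card F = 2 →
      NatKM F (S : Subgroup G) P (zl (S : Subgroup G) P) (cv (S : Subgroup G) P) k →
        BG S n (FBl (BL (S : Subgroup G) n))) : LowTwo K :=
  fun G _ _ hK S P k hP n hall hn1 hk F _ _ _ hF N _ hM hN _ =>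
    (h G hK S P k hP n hall hn1 hk F hF N).low hM hN

end Cfsg.Agent.Omega.Node.OmLevOf

end

section


/-!
# (LL), `q = 2`, natural type: the plug `LowTwo K`

`(T, Y)`, `T ≥ B = C_S(Z_J)` a Sylow 2-subgroup of the minimal parabolic `Y` of characteristic 2 which moves `Ω₁Z(T)`.

* `exists_cj_le` : `T` is conjugate under `N_G(B)` to a subgroup of `S`;
* `le_of_syl` : if `T` is a Sylow 2-subgroup of `G` then `lev S n ≤ O₂(Y)` (from the hypothesis on `P*(S)`);
* `eq_B` : `k = 2`: `T = B` or `|T| = |S|`.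
-/

set_option autoImplicit false
set_option linter.unusedSectionVars false

namespace Cfsg.Agent.Omega.OM.Lev.Low

open Subgroup Cfsg Cfsg.Agent.ZN.ChoiceBase Cfsg.Agent.ZN.ChoiceSit
open Cfsg.Agent.ZN (jj zj bau zc zl o2)
open Cfsg.Agent.MinSimple.MinParabolic (IsMinPar)
open Cfsg.Agent.Omega.FFThm (NatKM SymKM)
open Cfsg.Agent.Omega.FrameFF (cv)
open Cfsg.Agent.Omega.MinPar (IsParS)
open Cfsg.Agent.Omega.OM.Lev.Uni (FrL)
open Cfsg.Agent.Omega.OM.SwapL (Ln ZL BL)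
open Cfsg.Agent.Omega.NO3S.Level (lev lev_isLev lev_le)

universe u

variable {G : Type u} [Group G] [Finite G]

/-- `T` is conjugate under `N_G(B)` to a subgroup of `S`. -/
theorem exists_cj_le (S : Sylow 2 G) {n : ℕ} {T : Subgroup G} (hT : IsPGroup 2 T)
    (hB : BL (S : Subgroup G) n ≤ T) :
    ∃ g ∈ normalizer (BL (S : Subgroup G) n : Set G), cj g T ≤ S := by
  obtain ⟨R, hR⟩ := hT.exists_le_sylow
  obtain ⟨x, hx⟩ := MulAction.exists_smul_eq G S R
  have hRx : (R : Subgroup G) = cj x (S : Subgroup G) := by rw [← hx, Sylow.coe_subgroup_smul]; rfl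
  rw [hRx] at hR
  have h1 : cj x⁻¹ T ≤ S := by
    have := cj_mono x⁻¹ hR
    rwa [cj_inv_cj] at this
  refine ⟨x⁻¹, mem_normalizer_iff_cj.2 ?_, h1⟩
  exact SwapL.wc S n (S : Subgroup G) S.isPGroup' (SwapL.lb S n).BS x⁻¹ ((cj_mono _ hB).trans h1)

/-- A minimal parabolic which normalises `Ω₁Z(T)` centralises it. -/
theorem le_cent_of_norm {T Y : Subgroup G} (hT : Syl T Y) (hP : IsMinPar T Y)
    (h : Y ≤ normalizer (zc T : Set G)) : Y ≤ centralizer (zc T : Set G) := by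
  have : Fact (Nat.Prime 2) := ⟨Nat.prime_two⟩
  have hN : Y ≤ normalizer ((Y ⊓ centralizer (zc T : Set G) : Subgroup G) : Set G) := by
    intro y hy
    rw [mem_normalizer_iff_cj, cj_inf, cj_centralizer, cj_eq_of_mem_normalizer (h hy),
      cj_eq_of_mem_normalizer (le_normalizer hy)]
  have hTc : T ≤ centralizer (zc T : Set G) := NO3S.Level.le_centralizer_zc T
  rcases hP.sup_eq_or_inf_le hT.2.1 (syl_not_dvd hT) inf_le_left hN with h1 | h1
  · have h2 : T ≤ Y ⊓ centralizer (zc T : Set G) := le_inf hP.le hTc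
    rw [sup_eq_left.2 h2] at h1
    exact inf_eq_left.1 h1
  · exfalso
    rw [inf_eq_left.2 (le_inf hP.le hTc)] at h1
    refine hP.not_le ?_
    have h2 : T = o2 Y := le_antisymm h1 (o2_le_syl hT)
    rw [h2]
    exact le_normalizer_o2 Y

/-- **`T` Sylow in `G`.** -/
theorem le_of_syl (S : Sylow 2 G) {n : ℕ}
    (hall : ∀ R, IsParS (S : Subgroup G) R → lev (S : Subgroup G) n ≤ o2 R) {T Y : Subgroup G} (hT : Syl T Y)
    (hB : BL (S : Subgroup G) n ≤ T) (hcard : Nat.card S ≤ Nat.card T) (hP : IsMinPar T Y)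
    (hc : Y ⊓ centralizer (o2 Y : Set G) ≤ o2 Y) (hZ : ¬ Y ≤ centralizer (zc T : Set G)) :
    lev (S : Subgroup G) n ≤ o2 Y := by
  obtain ⟨g, hg, hgT⟩ := exists_cj_le S hT.2.1 hB
  have hS : cj g T = (S : Subgroup G) := Subgroup.eq_of_le_of_card_ge hgT (by rw [card_cj]; exact hcard)
  have hlev : cj g (lev (S : Subgroup G) n) = lev (S : Subgroup G) n :=
    mem_normalizer_iff_cj.1 (SwapL.norm_lev S (by omega) hg)
  have h1 : IsParS (S : Subgroup G) (cj g Y) := by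
    have h2 : IsMinPar (S : Subgroup G) (cj g Y) := by
      rw [← hS]
      exact NOThree.NoOver.isMinPar_cj g hP
    have h3 : o2 (cj g Y) ≠ ⊥ := by
      intro e
      rw [← MinSimple.Geo.cj_o2] at e
      have e1 : o2 Y = ⊥ := by
        have := congrArg (cj g⁻¹) e
        rw [cj_inv_cj] at this
        rw [this]
        exact map_bot _
      rw [e1] at hc
      apply hZ
      have h4 : Y = ⊥ := le_bot_iff.1 (le_trans (le_inf le_rfl (fun y _ => by
        rw [mem_centralizer_iff]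
        rintro x hx
        have hx' : x = 1 := hx
        rw [hx']
        simp)) hc)
      rw [h4]
      exact bot_le
    refine ⟨⟨h2, h3⟩, fun h5 => hZ (le_cent_of_norm hT hP ?_)⟩
    intro y hy
    have h6 := h5 ⟨y, hy, rfl⟩
    rw [mem_normalizer_iff_cj, ← hS, NO3S.Level.zc_cj] at h6
    rw [mem_normalizer_iff_cj]
    have e2 : (MulAut.conj g).toMonoidHom y = g * y * g⁻¹ := rfl
    rw [e2, cj_cj] at h6
    have h7 := congrArg (cj g⁻¹) h6
    rw [cj_cj, cj_inv_cj] at h7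
    rwa [show g⁻¹ * (g * y * g⁻¹ * g) = y by group] at h7
  have h3 := hall _ h1
  rw [← hlev, ← MinSimple.Geo.cj_o2] at h3
  have h4 := cj_mono g⁻¹ h3
  rwa [cj_inv_cj, cj_inv_cj] at h4

/-- `k = 2`, `q = 2`: only `B` and `S` lie between `B` and `S`. -/
theorem eq_B {S : Sylow 2 G} {P B ZJ : Subgroup G} {L W Z C : Fin 2 → Subgroup G}
    (h : NO3S.EThree.Frame.Bg S P B ZJ L W Z C 2) {T : Subgroup G} (hB : B ≤ T) (hT : T ≤ (S : Subgroup G)) :
    T = B ∨ T = S := by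
  by_cases h1 : T ≤ normalizer (Z 0 : Set G)
  · left
    refine le_antisymm ?_ hB
    rw [← TC.UniLev.T_eq h]
    exact le_inf hT h1
  · right
    refine le_antisymm hT fun t ht => ?_
    obtain ⟨s, hs, hsn⟩ := SetLike.not_le_iff_exists.1 h1
    have key : ∀ x ∈ (S : Subgroup G), x ∉ normalizer (Z 0 : Set G) → cj x (Z 0) = Z 1 := by
      intro x hx hxn
      obtain ⟨σ, hσ⟩ := h.perm_S hx
      have h2 := (hσ 0).2.1
      have h3 : σ 0 ≠ 0 := fun e => hxn (mem_normalizer_iff_cj.2 (by rw [h2, e]))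
      have h4 : ∀ a : Fin 2, a ≠ 0 → a = 1 := by decide
      rw [h2, h4 _ h3]
    have hTn : ∀ x ∈ (S : Subgroup G), x ∈ normalizer (Z 0 : Set G) → x ∈ T := fun x hx hxn =>
      hB (by rw [← TC.UniLev.T_eq h]; exact ⟨hx, hxn⟩)
    by_cases h5 : t ∈ normalizer (Z 0 : Set G)
    · exact hTn t ht h5
    · have h6 : s⁻¹ * t ∈ T := by
        refine hTn _ (mul_mem (inv_mem (hT hs)) ht) (mem_normalizer_iff_cj.2 ?_)
        rw [← cj_cj, key t ht h5, ← key s (hT hs) hsn, cj_inv_cj]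
      have h7 := mul_mem hs h6
      rwa [mul_inv_cancel_left] at h7

/-- `k = 2`, `q = 2`: `T = B` or `T` is a Sylow 2-subgroup of `G`. -/
theorem eq_or {S : Sylow 2 G} {P : Subgroup G} {n : ℕ} {L W Z C : Fin 2 → Subgroup G}
    (h : NO3S.EThree.Frame.Bg S P (BL (S : Subgroup G) n) (ZL (S : Subgroup G) n) L W Z C 2) {T : Subgroup G}
    (hT : IsPGroup 2 T) (hB : BL (S : Subgroup G) n ≤ T) :
    T = BL (S : Subgroup G) n ∨ Nat.card S ≤ Nat.card T := by
  obtain ⟨g, hg, hgT⟩ := exists_cj_le S hT hB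
  have hBg : cj g (BL (S : Subgroup G) n) = BL (S : Subgroup G) n := mem_normalizer_iff_cj.1 hg
  have h1 : BL (S : Subgroup G) n ≤ cj g T := by
    rw [← hBg]
    exact cj_mono g hB
  rcases eq_B h h1 hgT with h2 | h2
  · left
    have h3 := congrArg (cj g⁻¹) (h2.trans hBg.symm)
    rwa [cj_inv_cj, cj_inv_cj] at h3
  · right
    have h3 : Nat.card (cj g T) = Nat.card S := by rw [h2]
    rw [card_cj] at h3
    exact h3.ge

end Cfsg.Agent.Omega.OM.Lev.Low

end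

section


/-!
# TORUS, `q = 2`, (W) and (L) (helper607 #23961)

`FrL B Q V X ZJ L W Z C A 2`, `c ≤ V` a subgroup of order `4` (the line of a block `K` of natural type over `𝔽₄` of a
parabolic of lower stage), `N = C_X(K)`, `τ` an element of `K` which acts on `c` without fixed points and centralises `N`.

* `exists_cj_ZJ` : every element of `V` is conjugate to an element of `Z_J` with the same support;
* `full_V` : (W) for elements of `V`;
* `line` : **(L)**: `c = W l` for one `l` and `W m ≤ N` for `m ≠ l`;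
* `full_of_conj` : **(W)**: a conjugate in `Z_J` of an element of `Z_J` of full support has full support.
-/

set_option autoImplicit false
set_option linter.unusedSectionVars false

namespace Cfsg.Agent.Omega.OM.Lev.Low.Line

open Subgroup Cfsg Cfsg.Agent.ZN.ChoiceBase Cfsg.Agent.ZN.ChoiceSit
open Cfsg.Agent.ZN (jj zj bau zc zl o2)
open Cfsg.Agent.Omega.OM.Lev.Uni (FrL)
open Cfsg.Agent.Omega.OM.SwapL (Ln ZL BL)
open Cfsg.Agent.Omega.SQ1.Bau (elem_comm elem_sq)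

universe u

variable {G : Type u} [Group G] {ι : Type*} {B Q V X ZJ : Subgroup G} {L W Z C A : ι → Subgroup G}

/-- full support -/
def Full (C : ι → Subgroup G) (v : G) : Prop := ∀ i, v ∉ C i

/-- `L i` is transitive on `W i` and centralises `C i` -/
def Tr (W Z C : ι → Subgroup G) : Prop :=
  ∀ i, ∀ x ∈ W i, x ≠ 1 → ∃ l : G, (∀ y ∈ C i, l * y = y * l) ∧ ∃ z ∈ Z i, l * z * l⁻¹ = x

theorem two_lt_card {H : Subgroup G} [Finite G] {a b c : G} (ha : a ∈ H) (hb : b ∈ H) (hc : c ∈ H) (hab : a ≠ b)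
    (hac : a ≠ c) (hbc : b ≠ c) : 2 < Nat.card H := by
  let f : Fin 3 → H := ![⟨a, ha⟩, ⟨b, hb⟩, ⟨c, hc⟩]
  have hf : Function.Injective f := by
    intro x y hxy
    fin_cases x <;> fin_cases y <;> simp [f, Subtype.ext_iff] at hxy ⊢ <;> first
      | exact absurd hxy hab | exact absurd hxy.symm hab
      | exact absurd hxy hac | exact absurd hxy.symm hac
      | exact absurd hxy hbc | exact absurd hxy.symm hbc
  have := Nat.card_le_card_of_injective f hf
  rw [Nat.card_eq_fintype_card, Fintype.card_fin] at this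
  omega

theorem eq_four {n : ℕ} (h : n ∣ 4) (h2 : 2 < n) : n = 4 := by
  obtain ⟨k, hk⟩ := h
  rcases k with _ | _ | k
  · omega
  · omega
  · nlinarith

section base

variable (h : FrL B Q V X ZJ L W Z C A 2)
include h

theorem mc {v w : G} (hv : v ∈ V) (hw : w ∈ V) : v * w = w * v := h.Vc hv hw

theorem mi {v : G} (hv : v ∈ V) : v * v = 1 := by
  rw [← pow_two]
  exact elem_sq h.elX v (h.VX hv)

theorem inv_eq {v : G} (hv : v ∈ V) : v⁻¹ = v := inv_eq_of_mul_eq_one_left (mi h hv)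

/-- an element of `W i ∩ C i` is trivial -/
theorem one_of {i : ι} {x : G} (h1 : x ∈ W i) (h2 : x ∈ C i) : x = 1 := by
  have h3 : x ∈ W i ⊓ C i := ⟨h1, h2⟩
  rwa [h.dir i, mem_bot] at h3

theorem mul_mem_C {i j : ι} (hij : i ≠ j) {w x : G} (hw : w ∈ W j) : w * x ∈ C i ↔ x ∈ C i :=
  mul_mem_cancel_left (h.WjC i j hij hw)

/-- `Z i = {1, z}` -/
theorem Z_two {i : ι} {z z' : G} (hz : z ∈ Z i) (hz1 : z ≠ 1) (hz' : z' ∈ Z i) (hz1' : z' ≠ 1) : z = z' := by
  have h1 : Nat.card (Z i) = 2 := h.cardZ i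
  have hf : Finite (Z i) := Nat.finite_of_card_ne_zero (by omega)
  obtain ⟨a, b, hab, hab2⟩ := Nat.card_eq_two_iff.1 h1
  have key : ∀ x : Z i, x = a ∨ x = b := fun x => by
    have : x ∈ ({a, b} : Set (Z i)) := by rw [hab2]; trivial
    simpa using this
  by_contra hne
  have h2 := key ⟨z, hz⟩
  have h3 := key ⟨z', hz'⟩
  have h4 := key 1
  have e1 : (⟨z, hz⟩ : Z i) ≠ ⟨z', hz'⟩ := fun e => hne (congrArg Subtype.val e)
  have e2 : (⟨z, hz⟩ : Z i) ≠ 1 := fun e => hz1 (congrArg Subtype.val e)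
  have e3 : (⟨z', hz'⟩ : Z i) ≠ 1 := fun e => hz1' (congrArg Subtype.val e)
  rcases h2 with h2 | h2 <;> rcases h3 with h3 | h3 <;> rcases h4 with h4 | h4 <;>
    simp_all

theorem exists_z (i : ι) : ∃ z ∈ Z i, z ≠ 1 := by
  have h1 : Nat.card (Z i) = 2 := h.cardZ i
  have hf : Finite (Z i) := Nat.finite_of_card_ne_zero (by omega)
  have : Nontrivial (Z i) := Finite.one_lt_card_iff_nontrivial.1 (by omega)
  obtain ⟨z, hz⟩ := exists_ne (1 : Z i)
  exact ⟨z, z.2, fun h => hz (Subtype.ext h)⟩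

theorem ZW (i : ι) : Z i ≤ W i := (h.blk i).ZV

/-- if all components lie in the `Z i`, then `v ∈ ZJ` -/
theorem mem_ZJ_of {v : G} (hv : v ∈ V) (hcmp : ∀ i, ∃ a ∈ Z i, ∃ b ∈ C i, v = a * b) : v ∈ ZJ := by
  refine (h.mem_ZJ v).2 ⟨hv, fun b hb => ?_⟩
  have hbV : b * v * b⁻¹ ∈ V := by
    rcases isEmpty_or_nonempty ι with hι | ⟨⟨i⟩⟩
    · have h1 : v = 1 := h.C0 v hv fun i => hι.elim i
      rw [h1]
      simp [one_mem]
    · exact h.LV i b ((h.blk i).BL hb) v hv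
  have h1 : b * v * b⁻¹ * v⁻¹ = 1 := by
    refine h.C0 _ (mul_mem hbV (inv_mem hv)) fun i => ?_
    obtain ⟨a, ha, c, hc, rfl⟩ := hcmp i
    have h2 := (h.blk i).cZ b hb a ha
    have h3 := h.BC i b hb c hc
    have e : b * (a * c) * b⁻¹ * (a * c)⁻¹ = (b * c * b⁻¹) * c⁻¹ := by
      have e1 : b * (a * c) * b⁻¹ = (b * c * b⁻¹) * a := by
        have e2 : b * (a * c) * b⁻¹ = a * (b * c * b⁻¹) := by
          calc b * (a * c) * b⁻¹ = (b * a) * c * b⁻¹ := by group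
            _ = a * (b * c * b⁻¹) := by rw [h2]; group
        rw [e2]
        exact mc h (h.ZV i ha) (h.CV i h3)
      rw [e1, mul_inv_rev]
      have e3 : b * c * b⁻¹ * a * (c⁻¹ * a⁻¹) = b * c * b⁻¹ * (a * c⁻¹) * a⁻¹ := by group
      rw [e3, mc h (h.ZV i ha) (inv_mem (h.CV i hc))]
      group
    rw [e]
    exact mul_mem h3 (inv_mem hc)
  exact mul_inv_eq_iff_eq_mul.1 (mul_inv_eq_one.1 h1)

/-- the components of an element of `ZJ` -/
theorem ZJ_cmp {v : G} (hv : v ∈ ZJ) (i : ι) : ∃ a ∈ Z i, ∃ b ∈ C i, v = a * b := by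
  obtain ⟨w, hw, c, hc, -, e⟩ := h.split_ZJ i hv
  exact ⟨w, hw, c, hc, e⟩

/-- every element of `V` is conjugate to an element of `Z_J` with the same support -/
theorem exists_cj_ZJ [Finite ι] (htr : Tr W Z C) {v : G} (hv : v ∈ V) :
    ∃ g : G, g * v * g⁻¹ ∈ ZJ ∧ ∀ i, g * v * g⁻¹ ∈ C i ↔ v ∈ C i := by
  have key : ∀ s : Set ι, s.Finite → ∃ g : G, g * v * g⁻¹ ∈ V ∧ (∀ i, g * v * g⁻¹ ∈ C i ↔ v ∈ C i) ∧
      ∀ i ∈ s, ∃ a ∈ Z i, ∃ b ∈ C i, g * v * g⁻¹ = a * b := by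
    intro s hs
    induction s, hs using Set.Finite.induction_on with
    | empty =>
      refine ⟨1, by simpa using hv, fun i => by simp, fun i hi => absurd hi (Set.notMem_empty i)⟩
    | @insert i s hi _ ih =>
      obtain ⟨g, hg, hgC, hgs⟩ := ih
      obtain ⟨w, hw, c, hc, e⟩ := h.WC i _ hg
      by_cases hw1 : w = 1
      · refine ⟨g, hg, hgC, fun j hj => ?_⟩
        rcases hj with rfl | hj
        · exact ⟨1, one_mem _, c, hc, by rw [e, hw1]⟩
        · exact hgs j hj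
      · obtain ⟨l, hl, z, hz, hlz⟩ := htr i w hw hw1
        have hz1 : z ≠ 1 := by
          rintro rfl
          apply hw1
          rw [← hlz]
          simp
        have e1 : (l⁻¹ * g) * v * (l⁻¹ * g)⁻¹ = z * c := by
          have e2 : (l⁻¹ * g) * v * (l⁻¹ * g)⁻¹ = l⁻¹ * (g * v * g⁻¹) * l := by group
          rw [e2, e, ← hlz]
          have e3 : c * l = l * c := (hl c hc).symm
          calc l⁻¹ * (l * z * l⁻¹ * c) * l = z * l⁻¹ * (c * l) := by group
            _ = z * c := by rw [e3]; group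
        have hzV : z ∈ V := h.ZV i hz
        have hcV : c ∈ V := h.CV i hc
        have e4 : z * c = z * w⁻¹ * (g * v * g⁻¹) := by rw [e]; group
        refine ⟨l⁻¹ * g, by rw [e1]; exact mul_mem hzV hcV, fun j => ?_, fun j hj => ?_⟩
        · rw [e1, ← hgC j, e]
          by_cases hji : j = i
          · subst hji
            constructor
            · intro h1
              exact absurd (one_of h (ZW h j hz) ((mul_mem_cancel_right hc).1 h1)) hz1
            · intro h1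
              exact absurd (one_of h hw ((mul_mem_cancel_right hc).1 h1)) hw1
          · rw [mul_mem_C h hji (ZW h i hz), mul_mem_C h hji hw]
        · rw [e1]
          by_cases hji : j = i
          · subst hji
            exact ⟨z, hz, c, hc, rfl⟩
          · have hjs : j ∈ s := by
              rcases hj with hj | hj
              · exact absurd hj hji
              · exact hj
            obtain ⟨a, ha, b, hb, e5⟩ := hgs j hjs
            have h6 : z * w⁻¹ ∈ C j := h.WjC j i hji (mul_mem (ZW h i hz) (inv_mem hw))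
            refine ⟨a, ha, z * w⁻¹ * b, mul_mem h6 hb, ?_⟩
            rw [e4, e5]
            have h7 := mc h (h.CV j h6) (h.ZV j ha)
            calc z * w⁻¹ * (a * b) = (z * w⁻¹ * a) * b := by group
              _ = (a * (z * w⁻¹)) * b := by rw [h7]
              _ = _ := by group
  obtain ⟨g, hg, hgC, hgs⟩ := key Set.univ (Set.toFinite _)
  exact ⟨g, mem_ZJ_of h hg fun i => hgs i (Set.mem_univ i), hgC⟩

/-- (W) for elements of `V` -/
theorem full_V [Finite ι] (htr : Tr W Z C)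
    (hW : ∀ z ∈ ZJ, ∀ g : G, g * z * g⁻¹ ∈ ZJ → Full C z → Full C (g * z * g⁻¹)) {v g : G} (hv : v ∈ V)
    (hg : g * v * g⁻¹ ∈ V) (hf : Full C v) : Full C (g * v * g⁻¹) := by
  obtain ⟨a, ha, haC⟩ := exists_cj_ZJ h htr hv
  obtain ⟨b, hb, hbC⟩ := exists_cj_ZJ h htr hg
  have e : (b * g * a⁻¹) * (a * v * a⁻¹) * (b * g * a⁻¹)⁻¹ = b * (g * v * g⁻¹) * b⁻¹ := by group
  have h1 := hW _ ha (b * g * a⁻¹) (by rw [e]; exact hb) fun i hi => hf i ((haC i).1 hi)
  rw [e] at h1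
  exact fun i hi => h1 i ((hbC i).2 hi)

/-- an element of `ZJ` of full support -/
theorem exists_full [Finite ι] : ∃ z ∈ ZJ, Full C z := by
  have key : ∀ s : Set ι, s.Finite → ∃ z ∈ ZJ, (∀ i ∈ s, z ∉ C i) ∧ ∀ i ∉ s, z ∈ C i := by
    intro s hs
    induction s, hs using Set.Finite.induction_on with
    | empty => exact ⟨1, one_mem _, fun i hi => absurd hi (Set.notMem_empty i), fun i _ => one_mem _⟩
    | @insert i s hi _ ih =>
      obtain ⟨z, hz, h1, h2⟩ := ih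
      obtain ⟨w, hw, hw1⟩ := exists_z h i
      refine ⟨w * z, mul_mem (h.Z_le i hw) hz, fun j hj => ?_, fun j hj => ?_⟩
      · by_cases hji : j = i
        · subst hji
          intro h3
          exact hw1 (one_of h (ZW h j hw) ((mul_mem_cancel_right (h2 j hi)).1 h3))
        · rw [mul_mem_C h hji (ZW h i hw)]
          rcases hj with hj | hj
          · exact absurd hj hji
          · exact h1 j hj
      · have hji : j ≠ i := fun e => hj (Or.inl e)
        rw [mul_mem_C h hji (ZW h i hw)]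
        exact h2 j fun e => hj (Or.inr e)
  obtain ⟨z, hz, h1, -⟩ := key Set.univ (Set.toFinite _)
  exact ⟨z, hz, fun i => h1 i (Set.mem_univ i)⟩

/-- `ZJ ∩ C l ≤ N` if `Z m ≤ N` for `m ≠ l` -/
theorem ZJ_C_le [Finite ι] {l : ι} {N : Subgroup G} (hN : ∀ m, m ≠ l → Z m ≤ N) {x : G} (hx : x ∈ ZJ)
    (hxC : x ∈ C l) : x ∈ N := by
  classical
  have h1 : ZJ ≤ Z l ⊔ (N ⊓ C l) := by
    refine zj_le h fun i => ?_
    by_cases hi : i = l
    · rw [hi]; exact le_sup_left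
    · exact (le_inf (hN i hi) ((ZW h i).trans (h.WjC l i (Ne.symm hi)))).trans le_sup_right
  have hcomm : ∀ a ∈ Z l, ∀ b ∈ N ⊓ C l, a * b = b * a := fun a ha b hb =>
    mc h (h.ZV l ha) (h.CV l (mem_inf.1 hb).2)
  obtain ⟨z, hz, n, hn, e⟩ := SQ1.Bau.mem_sup_comm hcomm (h1 hx)
  have h3 : z ∈ C l := by
    rw [e] at hxC
    exact (mul_mem_cancel_right (mem_inf.1 hn).2).1 hxC
  rw [e, one_of h (ZW h l hz) h3, one_mul]
  exact (mem_inf.1 hn).1

/-- **(L)** -/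
theorem line [Finite G] [Finite ι] (htr : Tr W Z C)
    (hW : ∀ z ∈ ZJ, ∀ g : G, g * z * g⁻¹ ∈ ZJ → Full C z → Full C (g * z * g⁻¹))
    {c N : Subgroup G} (hcV : c ≤ V) (hc4 : Nat.card c = 4) (hfix : ∀ x ∈ X, ∃ a ∈ c, a * x ∈ N)
    (htriv : c ⊓ N = ⊥) (hBc : ∀ b ∈ B, ∀ x ∈ c, b * x * b⁻¹ ∈ c) (hBN : ∀ b ∈ B, ∀ x ∈ N, b * x * b⁻¹ ∈ N)
    (hZJ : ¬ ZJ ≤ N) {τ : G} (hτc : ∀ x ∈ c, τ * x * τ⁻¹ ∈ c) (hτ1 : ∀ x ∈ c, τ * x * τ⁻¹ = x → x = 1)
    (hτN : ∀ x ∈ N, τ * x * τ⁻¹ = x) :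
    ∃ l, c = W l ∧ (∀ m, m ≠ l → W m ≤ N) ∧ ∀ m, m ≠ l → Z m ≤ N := by
  classical
  have hfull := fun {v g : G} (hv : v ∈ V) (hg : g * v * g⁻¹ ∈ V) => full_V h htr hW (v := v) (g := g) hv hg
  -- a root element which centralises `c` has its `Z i` in `N`
  have key1 : ∀ i, (∀ t ∈ A i, ∀ x ∈ c, t * x = x * t) → Z i ≤ N := by
    intro i hi z hz
    have hne := h.Ane i
    push Not at hne
    obtain ⟨t, ht, w0, hw0, hne⟩ := hne
    obtain ⟨w, hw, e⟩ := exists_comm h (h.AB i ht) (fun hh => hne (hh w0 hw0)) hz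
    have hwV : w ∈ V := h.WV i hw
    obtain ⟨a, ha, haN⟩ := hfix w (h.VX hwV)
    have haV := hcV ha
    have h1 := hBN t (h.AB i ht) _ haN
    have h2 := mul_mem haN h1
    have hta : t * a * t⁻¹ = a := mul_inv_eq_iff_eq_mul.2 (hi t ht a ha)
    have htw : t * w * t⁻¹ ∈ V := h.LV i t ((h.blk i).BL (h.AB i ht)) w hwV
    have e1 : a * w * (t * (a * w) * t⁻¹) = w * (t * w * t⁻¹) := by
      have e2 : t * (a * w) * t⁻¹ = a * (t * w * t⁻¹) := by
        calc t * (a * w) * t⁻¹ = (t * a * t⁻¹) * (t * w * t⁻¹) := by group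
          _ = _ := by rw [hta]
      rw [e2]
      calc a * w * (a * (t * w * t⁻¹)) = a * (w * a) * (t * w * t⁻¹) := by group
        _ = (a * a) * w * (t * w * t⁻¹) := by rw [mc h hwV haV]; group
        _ = _ := by rw [mi h haV, one_mul]
    rwa [e1, e] at h2
  -- (1)
  obtain ⟨l, t, ht, x0, hx0, hne⟩ : ∃ l, ∃ t ∈ A l, ∃ x ∈ c, t * x ≠ x * t := by
    by_contra hcon
    push Not at hcon
    exact hZJ (zj_le h fun i => key1 i fun t ht x hx => hcon i t ht x hx)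
  -- (2)
  have hxV := hcV hx0
  have h1 : t * x0 * t⁻¹ * x0⁻¹ ∈ Z l := h.A_comm ht hxV
  have h2 : t * x0 * t⁻¹ * x0⁻¹ ∈ c := mul_mem (hBc t (h.AB l ht) x0 hx0) (inv_mem hx0)
  have h3 : t * x0 * t⁻¹ * x0⁻¹ ≠ 1 := fun e => hne (mul_inv_eq_iff_eq_mul.1 (mul_inv_eq_one.1 e))
  have hZc : Z l ≤ c := by
    intro z hz
    by_cases hz1 : z = 1
    · rw [hz1]; exact one_mem _
    · rw [Z_two h hz hz1 h1 h3]; exact h2
  obtain ⟨zl, hzl, hzl1⟩ := exists_z h l
  -- (3)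
  have hidx : ((Z l).subgroupOf c).index = 2 := by
    have e1 := Subgroup.card_mul_index ((Z l).subgroupOf c)
    have e2 : Nat.card ((Z l).subgroupOf c) = 2 := by
      rw [Nat.card_congr (subgroupOfEquivOfLe hZc).toEquiv, h.cardZ l]
    rw [e2, hc4] at e1
    omega
  have h4 : ∀ b ∈ B, ∀ x ∈ c, b * x * b⁻¹ * x⁻¹ ∈ Z l := by
    intro b hb x hx
    have hbx := hBc b hb x hx
    by_cases hxZ : x ∈ Z l
    · rw [(h.blk l).cZ b hb x hxZ]
      simp [one_mem]
    · have hbxZ : b * x * b⁻¹ ∉ Z l := by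
        intro h5
        apply hxZ
        have h6 := (h.blk l).cZ b hb _ h5
        have e : x = b * x * b⁻¹ := by
          have h7 : b * x = b * (b * x * b⁻¹) := by rw [h6]; group
          exact mul_left_cancel h7
        rw [e]; exact h5
      have h5 := Subgroup.mul_mem_iff_of_index_two hidx (a := ⟨b * x * b⁻¹, hbx⟩) (b := ⟨x, hx⟩⁻¹)
      have h6 : ((⟨b * x * b⁻¹, hbx⟩ * ⟨x, hx⟩⁻¹ : c) : G) = b * x * b⁻¹ * x⁻¹ := rfl
      rw [mem_subgroupOf, mem_subgroupOf, mem_subgroupOf, h6] at h5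
      refine h5.2 (iff_of_false hbxZ ?_)
      intro h7
      exact hxZ (by simpa using h7)
  -- (4)
  have h5 : ∀ x ∈ c, ∃ w ∈ W l, ∃ b ∈ C l, b ∈ ZJ ∧ x = w * b := by
    intro x hx
    obtain ⟨w, hw, b', hb', rfl⟩ := h.WC l x (hcV hx)
    refine ⟨w, hw, b', hb', (h.mem_ZJ b').2 ⟨h.CV l hb', fun b hb => ?_⟩, rfl⟩
    have h6 := h4 b hb _ hx
    have h7 := (h.blk l).BV hb hw
    have h8 := h.BC l b hb b' hb'
    have e : b * (w * b') * b⁻¹ * (w * b')⁻¹ = (b * w * b⁻¹ * w⁻¹) * (b * b' * b⁻¹ * b'⁻¹) := by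
      have c1 := mc h (h.WV l hw) (h.CV l (mul_mem h8 (inv_mem hb')))
      calc b * (w * b') * b⁻¹ * (w * b')⁻¹ = (b * w * b⁻¹) * ((b * b' * b⁻¹ * b'⁻¹) * w⁻¹) := by group
        _ = (b * w * b⁻¹) * (w⁻¹ * (b * b' * b⁻¹ * b'⁻¹)) := by
          rw [mc h (h.CV l (mul_mem h8 (inv_mem hb'))) (inv_mem (h.WV l hw))]
        _ = _ := by group
    rw [e] at h6
    have h9 : b * b' * b⁻¹ * b'⁻¹ ∈ W l :=
      (mul_mem_cancel_left (mul_mem h7 (inv_mem hw))).1 (ZW h l h6)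
    have h10 := one_of h h9 (mul_mem h8 (inv_mem hb'))
    exact mul_inv_eq_iff_eq_mul.1 (mul_inv_eq_one.1 h10)
  -- (5)
  have h6 : ∀ m, m ≠ l → Z m ≤ N := by
    intro m hm
    refine key1 m fun s hs x hx => ?_
    obtain ⟨w, hw, b, hb, hbZ, rfl⟩ := h5 x hx
    have c1 : Commute s w := h.AC m s hs w (h.WjC m l hm hw)
    have c2 : Commute s b := ((h.mem_ZJ b).1 hbZ).2 s (h.AB m hs)
    exact (c1.mul_right c2).eq
  -- (6)
  obtain ⟨z0, hz0, hz0f⟩ := exists_full h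
  obtain ⟨y, hy, c0, hc0, hc0Z, ez0⟩ := h.split_ZJ l hz0
  have hy1 : y ≠ 1 := by
    rintro rfl
    apply hz0f l
    rw [ez0, one_mul]
    exact hc0
  have hc0N : c0 ∈ N := ZJ_C_le h h6 hc0Z hc0
  have hc0f : ∀ i, i ≠ l → c0 ∉ C i := fun i hi h7 => hz0f i (by
    rw [ez0, mul_mem_C h hi (ZW h l hy)]; exact h7)
  have hyc : y ∈ c := hZc hy
  have hx := hτc y hyc
  obtain ⟨w, hw, b', hb', hb'Z, ex⟩ := h5 _ hx
  have hτz : τ * z0 * τ⁻¹ = w * (b' * c0) := by
    rw [ez0]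
    calc τ * (y * c0) * τ⁻¹ = (τ * y * τ⁻¹) * (τ * c0 * τ⁻¹) := by group
      _ = w * b' * c0 := by rw [ex, hτN c0 hc0N]
      _ = _ := by group
  have hτzV : τ * z0 * τ⁻¹ ∈ V := by
    rw [hτz]
    exact mul_mem (h.WV l hw) (mul_mem (h.CV l hb') (h.CV l hc0))
  have hf1 := hfull (h.ZJV hz0) hτzV hz0f
  have hb'1 : b' = 1 := by
    refine h.C0 b' (h.CV l hb') fun i => ?_
    by_cases hi : i = l
    · rw [hi]; exact hb'
    · by_contra hbi
      have h7 : b' * c0 ∉ C i := fun h8 => hf1 i (by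
        rw [hτz, mul_mem_C h hi hw]; exact h8)
      obtain ⟨a1, ha1, d1, hd1, e1⟩ := ZJ_cmp h hb'Z i
      obtain ⟨a2, ha2, d2, hd2, e2⟩ := ZJ_cmp h hc0Z i
      have ha1' : a1 ≠ 1 := by
        rintro rfl
        exact hbi (by rw [e1, one_mul]; exact hd1)
      have ha2' : a2 ≠ 1 := by
        rintro rfl
        exact hc0f i hi (by rw [e2, one_mul]; exact hd2)
      have e3 := Z_two h ha1 ha1' ha2 ha2'
      apply h7
      rw [e1, e2, ← e3]
      have e4 : a1 * d1 * (a1 * d2) = (a1 * a1) * (d1 * d2) := by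
        calc a1 * d1 * (a1 * d2) = a1 * (d1 * a1) * d2 := by group
          _ = a1 * (a1 * d1) * d2 := by rw [mc h (h.CV i hd1) (h.ZV i ha1)]
          _ = _ := by group
      rw [e4, mi h (h.ZV i ha1), one_mul]
      exact mul_mem hd1 hd2
  have hxW : τ * y * τ⁻¹ ∈ W l := by rw [ex, hb'1, mul_one]; exact hw
  have hx1 : τ * y * τ⁻¹ ≠ 1 := fun e => hy1 (conj_eq_one_iff.1 e)
  have hxy : τ * y * τ⁻¹ ≠ y := fun e => hy1 (hτ1 y hyc e)
  have hWl : Nat.card (W l) = 4 := by rw [(h.blk l).card, h.cardZ l]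
  have hcW : c = W l := by
    have h7 : Nat.card ↥(c ⊓ W l) ∣ 4 := by
      rw [← hc4]
      exact Subgroup.card_dvd_of_le inf_le_left
    have h8 : 2 < Nat.card ↥(c ⊓ W l) :=
      two_lt_card (one_mem _) (mem_inf.2 ⟨hyc, ZW h l hy⟩) (mem_inf.2 ⟨hx, hxW⟩) hy1.symm hx1.symm hxy.symm
    have h9 : Nat.card ↥(c ⊓ W l) = 4 := eq_four h7 h8
    have h10 : c ⊓ W l = c := Subgroup.eq_of_le_of_card_ge inf_le_left (by rw [h9, hc4])
    have h11 : c ⊓ W l = W l := Subgroup.eq_of_le_of_card_ge inf_le_right (by rw [h9, hWl])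
    rw [← h10, h11]
  refine ⟨l, hcW, fun m hm v hv => ?_, h6⟩
  -- (7)
  by_cases hv1 : v = 1
  · rw [hv1]; exact one_mem _
  have hvV := h.WV m hv
  obtain ⟨a, ha, haN⟩ := hfix v (h.VX hvV)
  by_cases ha1 : a = 1
  · rwa [ha1, one_mul] at haN
  exfalso
  have haV := hcV ha
  set a' := τ * a * τ⁻¹ with ha'
  have ha'c : a' ∈ c := hτc a ha
  have hne' : a' ≠ a := fun e => ha1 (hτ1 a ha e)
  have hτv : τ * v * τ⁻¹ = (a' * a) * v := by
    have e1 : v = a * (a * v) := by rw [← mul_assoc, mi h haV, one_mul]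
    have e2 : τ * v * τ⁻¹ = a' * (τ * (a * v) * τ⁻¹) := by
      rw [ha']
      nth_rewrite 1 [e1]
      group
    rw [e2, hτN _ haN]
    group
  set w' := a' * a with hw'
  have hw'c : w' ∈ c := mul_mem ha'c ha
  have hw'c' := hw'c
  have hw'1 : w' ≠ 1 := fun e => hne' (by
    rw [← inv_eq h haV]
    exact eq_inv_of_mul_eq_one_left e)
  -- `τ` is surjective on `c`
  obtain ⟨e', he', hee⟩ : ∃ e ∈ c, τ * e * τ⁻¹ = w' := by
    have h7 : cj τ c = c := by
      refine Subgroup.eq_of_le_of_card_ge ?_ (card_cj _ _).ge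
      rintro _ ⟨x, hx, rfl⟩
      exact hτc x hx
    rw [← h7] at hw'c
    obtain ⟨x, hx, e⟩ := hw'c
    exact ⟨x, hx, e⟩
  have he1 : e' ≠ 1 := by
    rintro rfl
    apply hw'1
    rw [← hee]
    simp
  obtain ⟨y2, hy2, c1, hc1, hc1Z, ec0⟩ := h.split_ZJ m hc0Z
  have hy2C : ∀ i, i ≠ m → y2 ∈ C i := fun i hi => h.WjC i m hi (ZW h m hy2)
  have hc1l : c1 ∈ C l := by
    rw [ec0] at hc0
    exact (mul_mem_cancel_left (hy2C l (Ne.symm hm))).1 hc0
  have hc1N : c1 ∈ N := ZJ_C_le h h6 hc1Z hc1l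
  have hc1f : ∀ i, i ≠ l → i ≠ m → c1 ∉ C i := fun i hi hi' h7 => hc0f i hi (by
    rw [ec0]; exact mul_mem (hy2C i hi') h7)
  have he'W : e' ∈ W l := hcW ▸ he'
  have hw'W : w' ∈ W l := hcW ▸ hw'c'
  have hu : v * (e' * c1) ∈ V := mul_mem hvV (mul_mem (h.WV l he'W) (h.CV m hc1))
  have huf : Full C (v * (e' * c1)) := by
    intro i h7
    by_cases him : i = m
    · subst him
      have h8 : e' * c1 ∈ C i := by
        rw [mul_mem_C h hm he'W]; exact hc1
      exact hv1 (one_of h hv ((mul_mem_cancel_right h8).1 h7))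
    · rw [mul_mem_C h him hv] at h7
      by_cases hil : i = l
      · subst hil
        exact he1 (one_of h he'W ((mul_mem_cancel_right hc1l).1 h7))
      · rw [mul_mem_C h hil he'W] at h7
        exact hc1f i hil him h7
  have eu : τ * (v * (e' * c1)) * τ⁻¹ = v * c1 := by
    have e1 : τ * (v * (e' * c1)) * τ⁻¹ = (τ * v * τ⁻¹) * (τ * e' * τ⁻¹) * (τ * c1 * τ⁻¹) := by group
    rw [e1, hτv, hee, hτN c1 hc1N, mul_assoc w' v w', mc h hvV (h.WV l hw'W), ← mul_assoc w' w' v,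
      mi h (h.WV l hw'W), one_mul]
  have h7 := hfull hu (by rw [eu]; exact mul_mem hvV (h.CV m hc1)) huf l
  rw [eu] at h7
  exact h7 (mul_mem (h.WjC l m (Ne.symm hm) hv) hc1l)

end base

end Cfsg.Agent.Omega.OM.Lev.Low.Line

end

end
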